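import Cfsg.Prelude.Def_ParabolicCharacters
import Cfsg.Agent.Lib.Char.Induced
import Cfsg.Agent.Lib.Char.Linear
import Cfsg.Agent.Lib.Two.GL
import Mathlib.NumberTheory.LegendreSymbol.AddCharacter
import Mathlib.Analysis.Fourier.FiniteAbelian.PontryaginDuality

/-!
# Principal series of a group between `SL(2, q)` and `GL(2, q)`
-/

set_option autoImplicit false

open scoped MatrixGroups ComplexConjugate

namespace Cfsg.Agent.Lib.TwoChar

open Cfsg Cfsg.Agent.Lib.Char Matrix

universe u v

section Group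

variable {H : Type v} [Group H]

/-- Induced functions as sums over coset representatives. -/
theorem indFun_eq_sum_reps [Fintype H] (K : Subgroup H) {θ : K → ℂ} (hθ : IsClassFunction K θ) {I : Type*}
    [Fintype I] (r : I → H) (hr : Function.Bijective fun i => (QuotientGroup.mk (r i) : H ⧸ K)) (g : H) :
    indFun K θ g = ∑ i, extendByZero K θ ((r i)⁻¹ * g * r i) := by
  classical
  have hb : Function.Bijective fun p : I × K => r p.1 * (p.2 : H) := by
    constructor
    · rintro ⟨i, k⟩ ⟨j, l⟩ h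
      simp only at h
      have hij : i = j := hr.1 (QuotientGroup.eq.mpr (by
        rw [show (r i)⁻¹ * r j = k * (l : H)⁻¹ by
          rw [eq_mul_inv_iff_mul_eq, mul_assoc, ← h, inv_mul_cancel_left]]
        exact mul_mem k.2 (inv_mem l.2)))
      subst hij
      rw [mul_right_inj, ← Subtype.ext_iff] at h
      rw [h]
    · intro x
      obtain ⟨i, hi⟩ := hr.2 (QuotientGroup.mk x)
      exact ⟨(i, ⟨(r i)⁻¹ * x, QuotientGroup.eq.mp hi⟩), mul_inv_cancel_left _ _⟩
  letI := Fintype.ofFinite K
  rw [indFun, ← (Equiv.ofBijective _ hb).sum_comp, Fintype.sum_prod_type, Finset.mul_sum]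
  refine Finset.sum_congr rfl fun i _ => ?_
  have hc : ∀ k : K, extendByZero K θ ((r i * (k : H))⁻¹ * g * (r i * (k : H))) =
      extendByZero K θ ((r i)⁻¹ * g * r i) := fun k => by
    have := extendByZero_conj hθ (K.inv_mem k.2) ((r i)⁻¹ * g * r i)
    rw [inv_inv] at this
    rw [← this]
    congr 1
    group
  simp only [Equiv.ofBijective_apply, hc, Finset.sum_const, Finset.card_univ, nsmul_eq_mul, ← Nat.card_eq_fintype_card]
  rw [← mul_assoc, inv_mul_cancel₀ (Nat.cast_ne_zero.mpr Nat.card_pos.ne'), one_mul]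

/-- Orthogonality of homomorphisms into the nonzero complex numbers. -/
theorem sum_hom_mul_conj [Fintype H] (l l' : H →* ℂˣ) [Decidable (l = l')] :
    ∑ h : H, (l h : ℂ) * conj (l' h : ℂ) = if l = l' then (Nat.card H : ℂ) else 0 := by
  classical
  have h := classInner_irr (isIrrCharacter_linear l) (isIrrCharacter_linear l')
  have hiff : ((fun g => (l g : ℂ)) = fun g => (l' g : ℂ)) ↔ l = l' :=
    ⟨fun e => MonoidHom.ext fun g => Units.ext (congrFun e g), fun e => by rw [e]⟩
  rw [classInner, inv_mul_eq_iff_eq_mul₀ (Nat.cast_ne_zero.mpr Nat.card_pos.ne')] at h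
  rw [h]
  by_cases e : l = l'
  · rw [if_pos (hiff.mpr e), if_pos e, mul_one]
  · rw [if_neg (fun c => e (hiff.mp c)), if_neg e, mul_zero]

theorem conj_hom [Finite H] (l : H →* ℂˣ) (h : H) : conj (l h : ℂ) = (l h⁻¹ : ℂ) := by
  have h1 := linear_conj_mul l h
  rw [map_inv, Units.val_inv_eq_inv_val]
  exact eq_inv_of_mul_eq_one_right h1

end Group

theorem finite_dual (A : Type v) [CommGroup A] [Finite A] : Finite (A →* ℂˣ) := by
  have : NeZero (Monoid.exponent A) := ⟨Monoid.exponent_ne_zero_of_finite⟩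
  have : NeZero (Monoid.exponent A : ℂ) := NeZero.charZero
  exact Nat.finite_of_card_ne_zero (by
    rw [CommGroup.card_monoidHom_of_hasEnoughRootsOfUnity A ℂ]; exact Nat.card_pos.ne')

theorem card_dual (A : Type v) [CommGroup A] [Finite A] : Nat.card (A →* ℂˣ) = Nat.card A := by
  have : NeZero (Monoid.exponent A) := ⟨Monoid.exponent_ne_zero_of_finite⟩
  have : NeZero (Monoid.exponent A : ℂ) := NeZero.charZero
  exact CommGroup.card_monoidHom_of_hasEnoughRootsOfUnity A ℂ

/-- Column orthogonality of the dual of a finite abelian group. -/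
theorem sum_dual_apply (A : Type v) [CommGroup A] [Finite A] [Fintype (A →* ℂˣ)] [DecidableEq A] (a : A) :
    ∑ l : A →* ℂˣ, (l a : ℂ) = if a = 1 then (Nat.card A : ℂ) else 0 := by
  split_ifs with ha
  · subst ha
    simp [← card_dual A, Nat.card_eq_fintype_card]
  · have : NeZero (Monoid.exponent A) := ⟨Monoid.exponent_ne_zero_of_finite⟩
    have : NeZero (Monoid.exponent A : ℂ) := NeZero.charZero
    obtain ⟨l₀, hl₀⟩ := CommGroup.exists_apply_ne_one_of_hasEnoughRootsOfUnity A ℂ ha
    have h : (l₀ a : ℂ) * ∑ l : A →* ℂˣ, (l a : ℂ) = ∑ l : A →* ℂˣ, (l a : ℂ) := by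
      rw [Finset.mul_sum]
      exact Fintype.sum_equiv (Equiv.mulLeft l₀) _ _ fun l => by simp
    by_contra hne
    exact hl₀ (Units.ext ((mul_eq_right₀ hne).mp h))

variable (F : Type u) [Field F] (G : Type v) [Group G]

/-- A group realised as the matrices of `GL(2, F)` with determinant in `D`. -/
structure Dat where
  ι : G →* GL (Fin 2) F
  inj : Function.Injective ι
  D : Subgroup Fˣ
  mem_range : ∀ M : GL (Fin 2) F, M ∈ ι.range ↔ GeneralLinearGroup.det M ∈ D

variable {F G}

/-- The diagonal of an upper triangular matrix. -/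
noncomputable def diagPair : upperTriangularGL 2 F →* Fˣ × Fˣ where
  toFun b := (Units.mk0 ((b.1 : Matrix (Fin 2) (Fin 2) F) 0 0) (fun h => by
      have h2 := (GeneralLinearGroup.det b.1).ne_zero
      rw [GeneralLinearGroup.val_det_apply, det_fin_two, h, (Two.mem_upper b.1).1 b.2] at h2
      simp at h2),
    Units.mk0 ((b.1 : Matrix (Fin 2) (Fin 2) F) 1 1) (fun h => by
      have h2 := (GeneralLinearGroup.det b.1).ne_zero
      rw [GeneralLinearGroup.val_det_apply, det_fin_two, h, (Two.mem_upper b.1).1 b.2] at h2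
      simp at h2))
  map_one' := by ext <;> simp
  map_mul' a b := by
    ext <;> simp [Matrix.mul_apply, Fin.sum_univ_two, (Two.mem_upper a.1).1 a.2, (Two.mem_upper b.1).1 b.2]

namespace Dat

variable (d : Dat F G)

/-- The matrix of an element. -/
def mat (g : G) : Matrix (Fin 2) (Fin 2) F := (d.ι g : Matrix (Fin 2) (Fin 2) F)

theorem mat_mul (g h : G) : d.mat (g * h) = d.mat g * d.mat h := by simp [mat]

theorem mat_one : d.mat 1 = 1 := by simp [mat]

theorem mat_injective {g h : G} (e : d.mat g = d.mat h) : g = h := d.inj (Units.ext e)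

/-- An element with given matrix. -/
noncomputable def lift (M : GL (Fin 2) F) (h : GeneralLinearGroup.det M ∈ d.D) : G :=
  Classical.choose ((d.mem_range M).2 h)

theorem ι_lift (M : GL (Fin 2) F) (h : GeneralLinearGroup.det M ∈ d.D) : d.ι (d.lift M h) = M :=
  Classical.choose_spec ((d.mem_range M).2 h)

theorem mat_lift (M : GL (Fin 2) F) (h : GeneralLinearGroup.det M ∈ d.D) :
    d.mat (d.lift M h) = (M : Matrix (Fin 2) (Fin 2) F) := by rw [mat, ι_lift]

/-- An element of determinant one. -/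
noncomputable def mk1 (M : Matrix (Fin 2) (Fin 2) F) (h : M.det = 1) : G :=
  d.lift (GeneralLinearGroup.mkOfDetNeZero M (by rw [h]; exact one_ne_zero)) (by
    have : GeneralLinearGroup.det (GeneralLinearGroup.mkOfDetNeZero M (by rw [h]; exact one_ne_zero)) = 1 :=
      Units.ext (by simpa [GeneralLinearGroup.val_det_apply] using h)
    rw [this]; exact one_mem _)

theorem mat_mk1 (M : Matrix (Fin 2) (Fin 2) F) (h : M.det = 1) : d.mat (d.mk1 M h) = M := by
  rw [mk1, mat_lift]; rfl

/-- Upper unitriangular elements. -/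
noncomputable def uu (x : F) : G := d.mk1 !![1, x; 0, 1] (by simp [det_fin_two])

theorem mat_uu (x : F) : d.mat (d.uu x) = !![1, x; 0, 1] := d.mat_mk1 _ _

theorem uu_add (x y : F) : d.uu (x + y) = d.uu x * d.uu y := d.mat_injective (by
  rw [mat_mul, mat_uu, mat_uu, mat_uu]
  ext i j; fin_cases i <;> fin_cases j <;> simp [Matrix.mul_apply, add_comm])

theorem uu_zero : d.uu 0 = 1 := d.mat_injective (by
  rw [mat_uu, mat_one]; ext i j; fin_cases i <;> fin_cases j <;> simp)

/-- The diagonal torus, as pairs. -/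
def T : Subgroup (Fˣ × Fˣ) := d.D.comap (MonoidHom.fst Fˣ Fˣ * MonoidHom.snd Fˣ Fˣ)

theorem mem_T (p : Fˣ × Fˣ) : p ∈ d.T ↔ p.1 * p.2 ∈ d.D := Iff.rfl

/-- The Weyl involution of the torus. -/
def swap : d.T →* d.T where
  toFun t := ⟨(t.1.2, t.1.1), by rw [mem_T, mul_comm]; exact t.2⟩
  map_one' := rfl
  map_mul' _ _ := rfl

theorem swap_swap (t : d.T) : d.swap (d.swap t) = t := rfl

/-- Diagonal elements. -/
noncomputable def tt (t : d.T) : G :=
  d.lift (GeneralLinearGroup.mkOfDetNeZero !![(t.1.1 : F), 0; 0, (t.1.2 : F)] (by simp [det_fin_two])) (by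
    have : GeneralLinearGroup.det (GeneralLinearGroup.mkOfDetNeZero !![(t.1.1 : F), 0; 0, (t.1.2 : F)]
        (by simp [det_fin_two])) = t.1.1 * t.1.2 :=
      Units.ext (by simp [GeneralLinearGroup.val_det_apply, det_fin_two, GeneralLinearGroup.mkOfDetNeZero])
    rw [this]; exact t.2)

theorem mat_tt (t : d.T) : d.mat (d.tt t) = !![(t.1.1 : F), 0; 0, (t.1.2 : F)] := by rw [tt, mat_lift]; rfl

/-- The Borel subgroup. -/
def B : Subgroup G := (upperTriangularGL 2 F).comap d.ι

theorem mem_B (g : G) : g ∈ d.B ↔ d.mat g 1 0 = 0 := Two.mem_upper (d.ι g)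

/-- The projection of the Borel onto the torus. -/
noncomputable def proj : d.B →* d.T :=
  MonoidHom.codRestrict (diagPair.comp ((d.ι.comp d.B.subtype).codRestrict (upperTriangularGL 2 F) (fun b => b.2))) d.T
    (fun b => by
      rw [mem_T]
      have hb : GeneralLinearGroup.det (d.ι b.1) ∈ d.D := (d.mem_range _).1 ⟨_, rfl⟩
      convert hb using 1
      refine Units.ext ?_
      simp [diagPair, GeneralLinearGroup.val_det_apply, det_fin_two, (Two.mem_upper (d.ι b.1)).1 b.2]
      rfl)

theorem proj_fst (b : d.B) : ((d.proj b).1.1 : F) = d.mat b.1 0 0 := rfl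

theorem proj_snd (b : d.B) : ((d.proj b).1.2 : F) = d.mat b.1 1 1 := rfl

/-- The Borel as torus times root group. -/
noncomputable def borelEquiv : d.T × F ≃ d.B where
  toFun p := ⟨d.uu (p.2 / p.1.1.2) * d.tt p.1, by
    rw [mem_B, mat_mul, mat_uu, mat_tt]; simp [Matrix.mul_apply]⟩
  invFun b := (d.proj b, d.mat b.1 0 1)
  left_inv p := by
    refine Prod.ext (Subtype.ext (Prod.ext (Units.ext ?_) (Units.ext ?_))) ?_
    · rw [proj_fst]; simp [mat_mul, mat_uu, mat_tt, Matrix.mul_apply]
    · rw [proj_snd]; simp [mat_mul, mat_uu, mat_tt, Matrix.mul_apply]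
    · simp [mat_mul, mat_uu, mat_tt, Matrix.mul_apply]
  right_inv b := by
    refine Subtype.ext (d.mat_injective ?_)
    rw [mat_mul, mat_uu, mat_tt]
    have h10 := (d.mem_B b.1).1 b.2
    have h11 : d.mat b.1 1 1 ≠ 0 := by rw [← proj_snd]; exact Units.ne_zero _
    ext i j
    fin_cases i <;> fin_cases j <;> simp [Matrix.mul_apply, proj_fst, proj_snd, h10, div_mul_cancel₀ _ h11]

theorem proj_borelEquiv (p : d.T × F) : d.proj (d.borelEquiv p) = p.1 :=
  congrArg Prod.fst (d.borelEquiv.symm_apply_apply p)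

theorem mat_borelEquiv (p : d.T × F) : d.mat (d.borelEquiv p).1 0 1 = p.2 :=
  congrArg Prod.snd (d.borelEquiv.symm_apply_apply p)

/-- Representatives of the projective line. -/
noncomputable def rep : Option F → G
  | none => 1
  | some x => d.mk1 !![x, -1; 1, 0] (by simp [det_fin_two])

theorem mat_rep_some (x : F) : d.mat (d.rep (some x)) = !![x, -1; 1, 0] :=
  d.mat_mk1 !![x, -1; 1, 0] (by simp [det_fin_two])

theorem mat_rep_inv (x : F) : d.mat (d.rep (some x))⁻¹ = !![0, 1; -1, x] := by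
  have h : d.rep (some x) * d.mk1 !![0, 1; -1, x] (by simp [det_fin_two]) = 1 := d.mat_injective (by
    rw [mat_mul, mat_rep_some, mat_mk1, mat_one]
    ext i j; fin_cases i <;> fin_cases j <;> simp [Matrix.mul_apply])
  rw [inv_eq_of_mul_eq_one_right h, mat_mk1]

theorem conj_rep (x : F) (g : G) :
    d.mat ((d.rep (some x))⁻¹ * g * d.rep (some x)) =
      !![d.mat g 1 0 * x + d.mat g 1 1, -d.mat g 1 0;
        d.mat g 1 0 * x ^ 2 + (d.mat g 1 1 - d.mat g 0 0) * x - d.mat g 0 1,
          d.mat g 0 0 - d.mat g 1 0 * x] := by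
  rw [mat_mul, mat_mul, mat_rep_some, mat_rep_inv]
  ext i j
  fin_cases i <;> fin_cases j <;> simp [Matrix.mul_apply, Matrix.vecMul, dotProduct, Fin.sum_univ_two] <;> ring

theorem rep_bijective : Function.Bijective fun o : Option F => (QuotientGroup.mk (d.rep o) : G ⧸ d.B) := by
  constructor
  · intro o o' h
    rw [QuotientGroup.eq, mem_B, mat_mul] at h
    rcases o with _ | x <;> rcases o' with _ | y
    · rfl
    · rw [show d.rep none = 1 from rfl, inv_one, mat_one, Matrix.one_mul, mat_rep_some] at h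
      simp at h
    · rw [show d.rep none = 1 from rfl, mat_one, Matrix.mul_one, mat_rep_inv] at h
      simp at h
    · rw [mat_rep_inv, mat_rep_some] at h
      simp [Matrix.mul_apply] at h
      rw [show x = y by linear_combination h]
  · intro C
    obtain ⟨g, rfl⟩ := QuotientGroup.mk_surjective C
    by_cases h : d.mat g 1 0 = 0
    · exact ⟨none, QuotientGroup.eq.mpr (by simp [show d.rep none = 1 from rfl, mem_B, h])⟩
    · refine ⟨some (d.mat g 0 0 / d.mat g 1 0), QuotientGroup.eq.mpr ?_⟩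
      rw [mem_B, mat_mul, mat_rep_inv]
      simp [Matrix.mul_apply, Fin.sum_univ_two, div_mul_cancel₀ _ h]

/-- A character of the torus inflated to the Borel. -/
noncomputable def pch (l : d.T →* ℂˣ) : d.B → ℂ := fun b => (l (d.proj b) : ℂ)

theorem pch_linear (l : d.T →* ℂˣ) : IsIrrCharacter d.B (d.pch l) := isIrrCharacter_linear (l.comp d.proj)

/-- The principal series. -/
noncomputable def I [Fintype G] (l : d.T →* ℂˣ) : G → ℂ := indFun d.B (d.pch l)

theorem isCharacter_I [Fintype G] (l : d.T →* ℂˣ) : IsCharacter G (d.I l) :=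
  isCharacter_indFun d.B (isCharacter_of_isIrr (d.pch_linear l))

variable [Fintype F] [Fintype G]

theorem I_eq (l : d.T →* ℂˣ) (g : G) :
    d.I l g = extendByZero d.B (d.pch l) g +
      ∑ x : F, extendByZero d.B (d.pch l) ((d.rep (some x))⁻¹ * g * d.rep (some x)) := by
  rw [I, indFun_eq_sum_reps d.B (isClassFunction_of_isIrr (d.pch_linear l)) d.rep d.rep_bijective,
    Fintype.sum_option]
  simp [show d.rep none = 1 from rfl]

open Classical in
/-- Values on the Borel. -/
theorem I_borel (l : d.T →* ℂˣ) (b : d.B) :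
    d.I l b.1 = (l (d.proj b) : ℂ) +
      (Nat.card {x : F // (d.mat b.1 1 1 - d.mat b.1 0 0) * x = d.mat b.1 0 1} : ℂ) * (l (d.swap (d.proj b)) : ℂ) := by
  have h10 := (d.mem_B b.1).1 b.2
  rw [I_eq, extendByZero_mem _ _ b.2]
  congr 1
  have hx : ∀ x : F, extendByZero d.B (d.pch l) ((d.rep (some x))⁻¹ * b.1 * d.rep (some x)) =
      if (d.mat b.1 1 1 - d.mat b.1 0 0) * x = d.mat b.1 0 1 then (l (d.swap (d.proj b)) : ℂ) else 0 := by
    intro x
    split_ifs with h
    · have hm : (d.rep (some x))⁻¹ * b.1 * d.rep (some x) ∈ d.B := by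
        rw [mem_B, conj_rep]; simp [h10]; linear_combination h
      rw [extendByZero_mem _ _ hm, pch]
      congr 2
      refine Subtype.ext (Prod.ext (Units.ext ?_) (Units.ext ?_))
      · rw [proj_fst, conj_rep]; simp [h10, swap, proj_snd]
      · rw [proj_snd, conj_rep]; simp [h10, swap, proj_fst]
    · refine extendByZero_not_mem _ _ fun hm => h ?_
      rw [mem_B, conj_rep] at hm
      simp [h10] at hm
      linear_combination hm
  rw [Finset.sum_congr rfl fun x _ => hx x, ← Finset.sum_filter, Finset.sum_const, nsmul_eq_mul,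
    Nat.card_eq_fintype_card, Fintype.card_subtype]

theorem I_eq_zero_of_no_eigen (l : d.T →* ℂˣ) (g : G)
    (h : ∀ (c : F) (v : Fin 2 → F), v ≠ 0 → (d.mat g).mulVec v ≠ c • v) : d.I l g = 0 := by
  have h0 : d.mat g 1 0 ≠ 0 := fun h0 => h (d.mat g 0 0) ![1, 0]
    (fun e => by simpa using congrFun e 0) (by ext i; fin_cases i <;> simp [Matrix.mulVec, dotProduct, h0])
  have hx : ∀ x : F, d.mat g 1 0 * x ^ 2 + (d.mat g 1 1 - d.mat g 0 0) * x - d.mat g 0 1 ≠ 0 := fun x e =>
    h (d.mat g 1 0 * x + d.mat g 1 1) ![x, 1] (fun e' => by simpa using congrFun e' 1) (by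
      ext i; fin_cases i <;> simp [Matrix.mulVec, dotProduct]
      linear_combination -e)
  rw [I_eq, extendByZero_not_mem _ _ (fun hm => h0 ((d.mem_B g).1 hm)), zero_add]
  refine Finset.sum_eq_zero fun x _ => extendByZero_not_mem _ _ fun hm => hx x ?_
  rw [mem_B, conj_rep] at hm
  simpa using hm

theorem I_uu (l : d.T →* ℂˣ) (x : F) [Decidable (x = 0)] :
    d.I l (d.uu x) = if x = 0 then (Fintype.card F : ℂ) + 1 else 1 := by
  classical
  have hm : d.uu x ∈ d.B := by rw [mem_B, mat_uu]; simp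
  have hp : d.proj ⟨_, hm⟩ = 1 := Subtype.ext (Prod.ext (Units.ext (by rw [proj_fst]; simp [mat_uu]))
    (Units.ext (by rw [proj_snd]; simp [mat_uu])))
  rw [d.I_borel l ⟨_, hm⟩, hp]
  simp only [map_one, Units.val_one, mul_one, mat_uu]
  split_ifs with h
  · subst h
    simp [add_comm, Nat.card_eq_fintype_card]
  · have h' : ¬ (0 : F) = x := Ne.symm h
    simp [h']

theorem I_tt (l : d.T →* ℂˣ) (t : d.T) (ht : t.1.1 ≠ t.1.2) :
    d.I l (d.tt t) = (l t : ℂ) + (l (d.swap t) : ℂ) := by
  classical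
  have hm : d.tt t ∈ d.B := by rw [mem_B, mat_tt]; simp
  have hp : d.proj ⟨_, hm⟩ = t := Subtype.ext (Prod.ext (Units.ext (by rw [proj_fst]; simp [mat_tt]))
    (Units.ext (by rw [proj_snd]; simp [mat_tt])))
  rw [d.I_borel l ⟨_, hm⟩, hp]
  have hne : (t.1.2 : F) - (t.1.1 : F) ≠ 0 := sub_ne_zero.mpr fun e => ht (Units.ext e.symm)
  have : Nat.card {x : F // ((t.1.2 : F) - (t.1.1 : F)) * x = 0} = 1 := by
    rw [Nat.card_eq_fintype_card, Fintype.card_subtype, Finset.card_eq_one]
    exact ⟨0, by ext x; simp [hne]⟩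
  simp [mat_tt, hne]

/-- Inner products of principal series. -/
theorem classInner_I (l l' : d.T →* ℂˣ) [Decidable (l = l')] [Decidable (l = l'.comp d.swap)] :
    classInner (d.I l) (d.I l') = (if l = l' then 1 else 0) + (if l = l'.comp d.swap then 1 else 0) := by
  classical
  have hT : (Nat.card d.T : ℂ) ≠ 0 := Nat.cast_ne_zero.mpr Nat.card_pos.ne'
  rw [I, I, classInner_indFun _ _ (isClassFunction_indFun _ _), classInner, ← d.borelEquiv.sum_comp,
    show (Nat.card d.B : ℂ) = (Nat.card d.T : ℂ) * (Fintype.card F : ℂ) by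
      rw [← Nat.card_congr d.borelEquiv, Nat.card_prod, Nat.card_eq_fintype_card (α := F), Nat.cast_mul],
    Fintype.sum_prod_type]
  have key : ∀ t : d.T, ∑ x : F, d.pch l (d.borelEquiv (t, x)) * conj (indFun d.B (d.pch l') (d.borelEquiv (t, x)).1) =
      (Fintype.card F : ℂ) * ((l t : ℂ) * conj (l' t : ℂ) + (l t : ℂ) * conj ((l'.comp d.swap) t : ℂ)) := by
    intro t
    have hN : ∑ x : F, (Nat.card {y : F // ((t.1.2 : F) - (t.1.1 : F)) * y = x} : ℂ) = (Fintype.card F : ℂ) := by
      rw [← Nat.cast_sum]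
      congr 1
      rw [← Nat.card_sigma, ← Nat.card_eq_fintype_card]
      exact Nat.card_congr (Equiv.sigmaFiberEquiv fun y => ((t.1.2 : F) - (t.1.1 : F)) * y)
    have hv : ∀ x : F, d.pch l (d.borelEquiv (t, x)) * conj (indFun d.B (d.pch l') (d.borelEquiv (t, x)).1) =
        (l t : ℂ) * conj (l' t : ℂ) + (Nat.card {y : F // ((t.1.2 : F) - (t.1.1 : F)) * y = x} : ℂ) *
          ((l t : ℂ) * conj ((l'.comp d.swap) t : ℂ)) := by
      intro x
      have := d.I_borel l' (d.borelEquiv (t, x))
      rw [I] at this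
      rw [this, pch, ← d.proj_fst, ← d.proj_snd, d.mat_borelEquiv, d.proj_borelEquiv, map_add, map_mul,
        Complex.conj_natCast, MonoidHom.comp_apply]
      ring
    rw [Finset.sum_congr rfl fun x _ => hv x, Finset.sum_add_distrib, Finset.sum_const,
      Finset.card_univ, nsmul_eq_mul, ← Finset.sum_mul, hN]
    ring
  rw [Finset.sum_congr rfl fun t _ => key t, ← Finset.mul_sum, Finset.sum_add_distrib, sum_hom_mul_conj,
    sum_hom_mul_conj, mul_inv, mul_assoc, inv_mul_cancel_left₀ (Nat.cast_ne_zero.mpr Fintype.card_ne_zero)]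
  split_ifs <;> field_simp <;> simp

end Dat

end Cfsg.Agent.Lib.TwoChar
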