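import Cfsg.Agent.Lib.TwoChar.Degrees

/-!
# Counting characters by degree
-/

set_option autoImplicit false

open scoped MatrixGroups ComplexConjugate

namespace Cfsg.Agent.Lib.TwoChar

open Cfsg Cfsg.Agent.Lib.Char Matrix

universe u v

variable {F : Type u} [Field F] [Fintype F] {G : Type v} [Group G] [Fintype G]

namespace Dat

variable {d : Dat F G}

/-- The degree determines the type when the four degrees are distinct. -/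
theorem OneOrbit.degree_iff (h : d.OneOrbit) {ψ : AddChar F ℂ} (hψ : ψ ≠ 1) (ht : d.FourTypes ψ)
    (hq : 3 ≤ Fintype.card F) (χ : IrrCharacter G) :
    ((χ : G → ℂ) 1 = 1 ↔ d.A χ = 1 ∧ d.M ψ χ = 0) ∧
    ((χ : G → ℂ) 1 = (Fintype.card F : ℂ) ↔ d.A χ = 1 ∧ d.M ψ χ = 1) ∧
    ((χ : G → ℂ) 1 = (Fintype.card F : ℂ) + 1 ↔ d.A χ = 2) ∧
    ((χ : G → ℂ) 1 = (Fintype.card F : ℂ) - 1 ↔ d.A χ = 0) := by
  have e1 : (Fintype.card F : ℂ) - 1 = ((Fintype.card F - 1 : ℕ) : ℂ) := by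
    rw [Nat.cast_sub (Fintype.card_pos : 0 < Fintype.card F), Nat.cast_one]
  have e2 : (Fintype.card F : ℂ) + 1 = ((Fintype.card F + 1 : ℕ) : ℂ) := by rw [Nat.cast_add, Nat.cast_one]
  rw [h.apply_one hψ, e1, e2, Nat.cast_inj, Nat.cast_inj, Nat.cast_inj, Nat.cast_eq_one]
  rcases ht χ with ⟨a, b⟩ | ⟨a, b⟩ | ⟨a, b⟩ | ⟨a, b⟩ <;> rw [a, b] <;> refine ⟨?_, ?_, ?_, ?_⟩ <;> constructor <;>
    intros <;> omega

theorem OneOrbit.apply_uu_of_degree (h : d.OneOrbit) {ψ : AddChar F ℂ} (hψ : ψ ≠ 1) (ht : d.FourTypes ψ)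
    (hq : 3 ≤ Fintype.card F) (χ : IrrCharacter G) {x : F} (hx : x ≠ 0) :
    ((χ : G → ℂ) 1 = 1 → (χ : G → ℂ) (d.uu x) = 1) ∧
    ((χ : G → ℂ) 1 = (Fintype.card F : ℂ) + 1 → (χ : G → ℂ) (d.uu x) = 1) ∧
    ((χ : G → ℂ) 1 = (Fintype.card F : ℂ) - 1 → (χ : G → ℂ) (d.uu x) = -1) ∧
    ((χ : G → ℂ) 1 = (Fintype.card F : ℂ) → (χ : G → ℂ) (d.uu x) = 0) := by
  obtain ⟨i1, i2, i3, i4⟩ := h.degree_iff hψ ht hq χ
  rw [i1, i2, i3, i4, h.apply_uu hψ χ hx]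
  rcases ht χ with ⟨a, b⟩ | ⟨a, b⟩ | ⟨a, b⟩ | ⟨a, b⟩ <;> simp [a, b] <;> norm_num

end Dat

end Cfsg.Agent.Lib.TwoChar
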