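import Cfsg.Agent.Lib.TwoChar.PSL

/-!
# The degree sets of `SL(2, q)` and `PSL(2, q)`
-/

set_option autoImplicit false

open scoped MatrixGroups ComplexConjugate

namespace Cfsg.Agent.Lib.TwoChar

open Cfsg Cfsg.Agent.Lib.Char Matrix

universe u

variable {F : Type u} [Field F] [Fintype F]

theorem trivial_on_center_char_two [CharP F 2] (χ : SL(2, F) → ℂ) :
    ∀ n ∈ Subgroup.center SL(2, F), χ n = χ 1 := by
  intro n hn
  obtain ⟨e, he, hn'⟩ := (Two.mem_center_iff_sign n).1 hn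
  have e1 : e = 1 := by
    rcases mul_self_eq_one_iff.1 he with h | h
    · exact h
    · rw [h, CharTwo.neg_eq]
  rw [show n = 1 from Subtype.ext (by rw [hn', e1, one_smul, Matrix.SpecialLinearGroup.coe_one])]

theorem degrees_subset_odd (hodd : Odd (Fintype.card F)) : charDegrees SL(2, F) ⊆
    {1, Fintype.card F, Fintype.card F + 1, Fintype.card F - 1, (Fintype.card F + 1) / 2,
      (Fintype.card F - 1) / 2} := by
  classical
  rintro _ ⟨χ, rfl⟩
  obtain ⟨ψ, hψ⟩ := exists_addChar F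
  obtain ⟨η, hη⟩ := FiniteField.exists_nonsquare (ringChar_ne_two hodd)
  have e1 : (Fintype.card F : ℂ) - 1 = ((Fintype.card F - 1 : ℕ) : ℂ) := by
    rw [Nat.cast_sub (Fintype.card_pos : 0 < Fintype.card F), Nat.cast_one]
  have e2 : (Fintype.card F : ℂ) + 1 = ((Fintype.card F + 1 : ℕ) : ℂ) := by rw [Nat.cast_add, Nat.cast_one]
  simp only [Set.mem_insert_iff, Set.mem_singleton_iff]
  rcases degree_cases_odd hodd hη hψ χ with ⟨-, -, -, e⟩ | ⟨-, -, -, e⟩ | ⟨-, -, -, e⟩ | ⟨-, -, -, e⟩ | ⟨-, -, e⟩ |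
    ⟨-, -, e⟩
  · rw [charDegree_eq_of_apply_one (n := 1) (by rw [e, Nat.cast_one])]; simp
  · rw [charDegree_eq_of_apply_one e]; simp
  · rw [charDegree_eq_of_apply_one (e.trans e2)]; simp
  · rw [charDegree_eq_of_apply_one (e.trans e1)]; simp
  · rw [charDegree_eq_of_apply_one e]; simp
  · rw [charDegree_eq_of_apply_one e]; simp

theorem degrees_subset_even [CharP F 2] : charDegrees SL(2, F) ⊆
    {1, Fintype.card F, Fintype.card F + 1, Fintype.card F - 1} := by
  classical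
  rintro _ ⟨χ, rfl⟩
  let d := slDat F
  letI : Fintype (d.T →* ℂˣ) := @Fintype.ofFinite _ (finite_dual d.T)
  obtain ⟨ψ, hψ⟩ := exists_addChar F
  obtain ⟨ht, -, -, -⟩ := sl_even_types F hψ
  have e := (sl_oneOrbit F).apply_one hψ χ
  rw [charDegree_eq_of_apply_one e]
  simp only [Set.mem_insert_iff, Set.mem_singleton_iff]
  rcases ht χ with ⟨a, b⟩ | ⟨a, b⟩ | ⟨a, b⟩ | ⟨a, b⟩ <;> rw [a, b] <;>
    have := Fintype.one_lt_card (α := F) <;> omega

theorem psl_degrees_subset : charDegrees (ProjectiveSpecialLinearGroup (Fin 2) F) ⊆ charDegrees SL(2, F) :=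
  charDegrees_subset_of_surjective (QuotientGroup.mk' _) (QuotientGroup.mk'_surjective _)

theorem psl_card_mem_odd (hodd : Odd (Fintype.card F)) :
    Fintype.card F ∈ charDegrees (ProjectiveSpecialLinearGroup (Fin 2) F) := by
  classical
  letI : Fintype ((slDat F).T →* ℂˣ) := @Fintype.ofFinite _ (finite_dual _)
  obtain ⟨χ, -, -, -, -, -, hval⟩ := (slDat F).exists_steinberg
  have h1 : (χ : SL(2, F) → ℂ) 1 = (Fintype.card F : ℂ) := by
    rw [hval, ← (slDat F).uu_zero, (slDat F).I_uu, if_pos rfl]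
    ring
  refine mem_charDegrees_quotient _ χ (trivial_on_center F ?_) h1
  rw [h1, hval, I_negOne]
  simp

theorem psl_card_mem_even [CharP F 2] :
    Fintype.card F ∈ charDegrees (ProjectiveSpecialLinearGroup (Fin 2) F) := by
  classical
  letI : Fintype ((slDat F).T →* ℂˣ) := @Fintype.ofFinite _ (finite_dual _)
  obtain ⟨χ, -, -, -, -, -, hval⟩ := (slDat F).exists_steinberg
  refine mem_charDegrees_quotient _ χ (trivial_on_center_char_two _) ?_
  rw [hval, ← (slDat F).uu_zero, (slDat F).I_uu, if_pos rfl]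
  ring

theorem psl_succ_mem_even [CharP F 2] (hq : 4 ≤ Fintype.card F) :
    Fintype.card F + 1 ∈ charDegrees (ProjectiveSpecialLinearGroup (Fin 2) F) := by
  classical
  let d := slDat F
  letI : Fintype (d.T →* ℂˣ) := @Fintype.ofFinite _ (finite_dual d.T)
  obtain ⟨ψ, hψ⟩ := exists_addChar F
  have h2 := d.two_mul_card_A_two (G := SL(2, F))
  rw [nfix_sl_even, card_slT] at h2
  obtain ⟨χ, hχ⟩ := Finset.card_pos.mp (show 0 < (Finset.univ.filter fun χ : IrrCharacter SL(2, F) => d.A χ = 2).card by omega)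
  have hA := (Finset.mem_filter.mp hχ).2
  refine mem_charDegrees_quotient _ χ (trivial_on_center_char_two _) ?_
  rw [(sl_oneOrbit F).apply_one hψ, hA, d.M_of_A_two hA hψ]
  congr 1; omega

theorem psl_pred_mem_even [CharP F 2] :
    Fintype.card F - 1 ∈ charDegrees (ProjectiveSpecialLinearGroup (Fin 2) F) := by
  classical
  let d := slDat F
  letI : Fintype (d.T →* ℂˣ) := @Fintype.ofFinite _ (finite_dual d.T)
  obtain ⟨ψ, hψ⟩ := exists_addChar F
  obtain ⟨ht, hN, -, -⟩ := sl_even_types F hψ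
  have := Fintype.one_lt_card (α := F)
  obtain ⟨χ, hχ⟩ := Finset.card_pos.mp (show 0 < (Finset.univ.filter fun χ : IrrCharacter SL(2, F) => (slDat F).A χ = 0).card by omega)
  have hA := (Finset.mem_filter.mp hχ).2
  refine mem_charDegrees_quotient _ χ (trivial_on_center_char_two _) ?_
  rcases ht χ with ⟨a, b⟩ | ⟨a, b⟩ | ⟨a, b⟩ | ⟨a, b⟩
  · exact absurd (hA.symm.trans a) (by decide)
  · exact absurd (hA.symm.trans a) (by decide)
  · exact absurd (hA.symm.trans a) (by decide)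
  · rw [(sl_oneOrbit F).apply_one hψ, a, b]
    simp

theorem psl_pred_mem_odd (hodd : Odd (Fintype.card F)) (hq : 5 ≤ Fintype.card F) :
    Fintype.card F - 1 ∈ charDegrees (ProjectiveSpecialLinearGroup (Fin 2) F) := by
  classical
  obtain ⟨ψ, hψ⟩ := exists_addChar F
  obtain ⟨η, hη⟩ := FiniteField.exists_nonsquare (ringChar_ne_two hodd)
  obtain ⟨χ, a, b, c, h⟩ := exists_cusp_trivial hodd hη hψ hq
  refine mem_charDegrees_quotient _ χ (trivial_on_center F h) ?_
  rw [apply_one_odd hodd hη hψ, a, b, c]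
  congr 1
  obtain ⟨r, hr⟩ := hodd
  omega

theorem psl_succ_mem_odd (hodd : Odd (Fintype.card F)) (hq : 7 ≤ Fintype.card F) :
    Fintype.card F + 1 ∈ charDegrees (ProjectiveSpecialLinearGroup (Fin 2) F) := by
  classical
  let d := slDat F
  have : NeZero (Monoid.exponent d.T) := ⟨Monoid.exponent_ne_zero_of_finite⟩
  have : NeZero (Monoid.exponent d.T : ℂ) := NeZero.charZero
  obtain ⟨e⟩ := CommGroup.monoidHom_mulEquiv_of_hasEnoughRootsOfUnity d.T ℂ
  obtain ⟨a, ha⟩ := IsCyclic.exists_generator (α := Fˣ)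
  have hord : orderOf a = Fintype.card F - 1 := by
    rw [orderOf_eq_card_of_forall_mem_zpowers ha, Nat.card_eq_fintype_card, Fintype.card_units]
  let g : d.T →* ℂˣ := (e.trans (slT F)).symm a
  have hg : orderOf g = Fintype.card F - 1 := by
    rw [← hord]; exact orderOf_injective ((e.trans (slT F)).symm.toMonoidHom) (MulEquiv.injective _) a
  have hne : (g ^ 2).comp d.swap ≠ g ^ 2 := by
    rw [Ne, slDat_fixed_iff, ← pow_mul]
    intro h
    have h1 := orderOf_dvd_of_pow_eq_one h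
    rw [hg] at h1
    have := Nat.le_of_dvd (by norm_num) h1
    omega
  have hirr := (d.I_irr_iff (g ^ 2)).2 hne
  refine mem_charDegrees_quotient _ (⟨d.I (g ^ 2), hirr⟩ : IrrCharacter SL(2, F)) (trivial_on_center F ?_) ?_
  · show d.I (g ^ 2) (negOne F) = d.I (g ^ 2) 1
    rw [I_negOne, ← d.uu_zero, d.I_uu, if_pos rfl, MonoidHom.pow_apply, ← map_pow, ← map_pow,
      show ((-1 : Fˣ) ^ 2) = 1 from neg_one_sq, map_one, map_one, Units.val_one, mul_one]
  · show d.I (g ^ 2) 1 = _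
    rw [← d.uu_zero, d.I_uu, if_pos rfl]
    push_cast
    rfl

/-- The degree graph when the degree set is squeezed between two bounds. -/
theorem graph_of_degrees {S : Type*} [Group S] {q : ℕ} (hq : 1 < q)
    (hsub : ∀ n ∈ charDegrees S, n = 1 ∨ n = q ∨ n ∣ q + 1 ∨ n ∣ q - 1)
    (h1 : q ∈ charDegrees S) (h2 : q + 1 ∈ charDegrees S) (h3 : q - 1 ∈ charDegrees S) :
    Cfsg.degreePrimes S = {r : ℕ | r.Prime ∧ r ∣ q * (q ^ 2 - 1)} ∧
    ∀ {t : ℕ}, t.Prime → (∀ r : ℕ, r.Prime → r ∣ q → r = t) → ∀ r s : ℕ,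
      (Cfsg.degreeGraph S).Adj r s ↔
        (r ≠ s ∧ r.Prime ∧ s.Prime ∧
          ((r * s ∣ q + 1) ∨ (r * s ∣ q - 1))) := by
  have hfac : q ^ 2 - 1 = (q + 1) * (q - 1) := by
    rw [← Nat.sq_sub_sq, one_pow]
  refine ⟨?_, fun {t} ht hqt r s => ?_⟩
  · ext r
    refine ⟨fun ⟨hr, n, hn, hd⟩ => ⟨hr, ?_⟩, fun ⟨hr, hd⟩ => ⟨hr, ?_⟩⟩
    · rcases hsub n hn with rfl | rfl | h | h
      · exact absurd (Nat.le_of_dvd one_pos hd) (by have := hr.two_le; omega)
      · exact dvd_mul_of_dvd_left hd _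
      · exact dvd_mul_of_dvd_right (hfac ▸ dvd_mul_of_dvd_left (hd.trans h) _) _
      · exact dvd_mul_of_dvd_right (hfac ▸ dvd_mul_of_dvd_right (hd.trans h) _) _
    · rw [hfac] at hd
      rcases hr.dvd_mul.1 hd with h | h
      · exact ⟨q, h1, h⟩
      · rcases hr.dvd_mul.1 h with h | h
        · exact ⟨q + 1, h2, h⟩
        · exact ⟨q - 1, h3, h⟩
  · refine and_congr_right fun hne => and_congr_right fun hr => and_congr_right fun hs => ?_
    constructor
    · rintro ⟨n, hn, hd⟩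
      rcases hsub n hn with rfl | rfl | h | h
      · have h5 := Nat.le_of_dvd one_pos hd
        have := Nat.mul_le_mul hr.two_le hs.two_le
        omega
      · exact absurd ((hqt r hr (dvd_of_mul_right_dvd hd)).trans (hqt s hs (dvd_of_mul_left_dvd hd)).symm) hne
      · exact Or.inl (hd.trans h)
      · exact Or.inr (hd.trans h)
    · rintro (h | h)
      · exact ⟨q + 1, h2, h⟩
      · exact ⟨q - 1, h3, h⟩

end Cfsg.Agent.Lib.TwoChar
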