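import Cfsg.Agent.Lib.TwoChar.Instances

/-!
# Degrees of the four types of characters
-/

set_option autoImplicit false

open scoped MatrixGroups ComplexConjugate

namespace Cfsg.Agent.Lib.TwoChar

open Cfsg Cfsg.Agent.Lib.Char Matrix

universe u v

variable {F : Type u} [Field F] [Fintype F] {G : Type v} [Group G] [Fintype G]

namespace Dat

variable {d : Dat F G}

/-- Being of one of the four types. -/
def FourTypes (d : Dat F G) (ψ : AddChar F ℂ) : Prop :=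
  ∀ χ : IrrCharacter G, (d.A χ = 1 ∧ d.M ψ χ = 0) ∨ (d.A χ = 1 ∧ d.M ψ χ = 1) ∨
    (d.A χ = 2 ∧ d.M ψ χ = 1) ∨ (d.A χ = 0 ∧ d.M ψ χ = 1)

theorem OneOrbit.degree_cast (h : d.OneOrbit) {ψ : AddChar F ℂ} (hψ : ψ ≠ 1) (χ : IrrCharacter G) :
    (χ : G → ℂ) 1 = (d.A χ : ℂ) + ((Fintype.card F : ℂ) - 1) * (d.M ψ χ : ℂ) := by
  rw [h.apply_one hψ, Nat.cast_add, Nat.cast_mul, Nat.cast_sub (Fintype.card_pos : 0 < Fintype.card F), Nat.cast_one]

/-- Degrees and transvection values of the four types. -/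
theorem OneOrbit.degree_cases (h : d.OneOrbit) {ψ : AddChar F ℂ} (hψ : ψ ≠ 1) (ht : d.FourTypes ψ)
    (χ : IrrCharacter G) :
    (d.A χ = 1 ∧ d.M ψ χ = 0 ∧ (χ : G → ℂ) 1 = 1) ∨
    (d.A χ = 1 ∧ d.M ψ χ = 1 ∧ (χ : G → ℂ) 1 = (Fintype.card F : ℂ)) ∨
    (d.A χ = 2 ∧ d.M ψ χ = 1 ∧ (χ : G → ℂ) 1 = (Fintype.card F : ℂ) + 1) ∨
    (d.A χ = 0 ∧ d.M ψ χ = 1 ∧ (χ : G → ℂ) 1 = (Fintype.card F : ℂ) - 1) := by
  have h1 := h.degree_cast hψ χ
  rcases ht χ with ⟨a, b⟩ | ⟨a, b⟩ | ⟨a, b⟩ | ⟨a, b⟩ <;> rw [a, b] at h1 <;> simp only [a, b] <;>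
    norm_num at h1 ⊢ <;> first | exact h1 | (left; linear_combination h1) | linear_combination h1

variable [Fintype (d.T →* ℂˣ)] [DecidableEq (d.T →* ℂˣ)]

omit [Fintype (d.T →* ℂˣ)] [DecidableEq (d.T →* ℂˣ)] in
theorem card_of_iff {P : IrrCharacter G → Prop} [DecidablePred P] {v : ℂ}
    (hP : ∀ χ : IrrCharacter G, (χ : G → ℂ) 1 = v ↔ P χ) :
    Nat.card {χ : IrrCharacter G // (χ : G → ℂ) 1 = v} = (Finset.univ.filter P).card := by
  classical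
  rw [Nat.card_eq_fintype_card, Fintype.card_subtype]
  exact congrArg Finset.card (Finset.filter_congr fun χ _ => hP χ)

end Dat

theorem natCast_ne_natCast_sub_one {q : ℕ} : (q : ℂ) ≠ (q : ℂ) - 1 := fun e => one_ne_zero (by linear_combination e : (1 : ℂ) = 0)

end Cfsg.Agent.Lib.TwoChar
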