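import Cfsg.Agent.Lib.TwoChar.OneOrbit
import Cfsg.Agent.Lib.Two.SL
import Cfsg.Agent.Lib.Classical.Order

/-!
# The two groups `GL(2, q)` and `SL(2, q)`
-/

set_option autoImplicit false

open scoped MatrixGroups ComplexConjugate

namespace Cfsg.Agent.Lib.TwoChar

open Cfsg Cfsg.Agent.Lib.Char Matrix

universe u

variable (F : Type u) [Field F]

/-- `GL(2, F)`. -/
def glDat : Dat F (GL (Fin 2) F) where
  ι := MonoidHom.id _
  inj := fun _ _ h => h
  D := ⊤
  mem_range M := ⟨fun _ => trivial, fun _ => ⟨M, rfl⟩⟩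

/-- `SL(2, F)`. -/
def slDat : Dat F SL(2, F) where
  ι := Matrix.SpecialLinearGroup.toGL
  inj := Matrix.SpecialLinearGroup.toGL_injective
  D := ⊥
  mem_range M := by
    rw [Subgroup.mem_bot]
    constructor
    · rintro ⟨A, rfl⟩
      exact Units.ext (by rw [GeneralLinearGroup.val_det_apply]; exact A.2)
    · intro h
      refine ⟨⟨(M : Matrix (Fin 2) (Fin 2) F), ?_⟩, Units.ext rfl⟩
      have := congrArg Units.val h
      rwa [GeneralLinearGroup.val_det_apply, Units.val_one] at this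

theorem glDat_B : (glDat F).B = upperTriangularGL 2 F := rfl

theorem slDat_B : (slDat F).B = (upperTriangularGL 2 F).comap Matrix.SpecialLinearGroup.toGL := rfl

theorem glDat_mem_T (p : Fˣ × Fˣ) : p ∈ (glDat F).T := Subgroup.mem_top _

theorem slDat_mem_T {p : Fˣ × Fˣ} : p ∈ (slDat F).T ↔ p.2 = p.1⁻¹ := by
  rw [Dat.mem_T, show (slDat F).D = ⊥ from rfl, Subgroup.mem_bot, mul_eq_one_iff_eq_inv']

/-- The torus of `GL(2, F)`. -/
def glT : (glDat F).T ≃* Fˣ × Fˣ where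
  toFun t := t.1
  invFun p := ⟨p, glDat_mem_T F p⟩
  left_inv _ := rfl
  right_inv _ := rfl
  map_mul' _ _ := rfl

/-- The torus of `SL(2, F)`. -/
def slT : (slDat F).T ≃* Fˣ where
  toFun t := t.1.1
  invFun a := ⟨(a, a⁻¹), (slDat_mem_T F).2 rfl⟩
  left_inv t := Subtype.ext (Prod.ext rfl ((slDat_mem_T F).1 t.2).symm)
  right_inv _ := rfl
  map_mul' _ _ := rfl

theorem slDat_swap (t : (slDat F).T) : (slDat F).swap t = t⁻¹ := by
  refine Subtype.ext (Prod.ext ?_ ?_)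
  · exact (slDat_mem_T F).1 t.2
  · change t.1.1 = (t.1.2)⁻¹
    rw [(slDat_mem_T F).1 t.2, inv_inv]

theorem slDat_fixed_iff (l : (slDat F).T →* ℂˣ) : l.comp (slDat F).swap = l ↔ l ^ 2 = 1 := by
  constructor
  · intro h
    refine MonoidHom.ext fun t => ?_
    have := DFunLike.congr_fun h t
    rw [MonoidHom.comp_apply, slDat_swap, map_inv] at this
    rw [MonoidHom.pow_apply, sq, MonoidHom.one_apply]
    nth_rewrite 1 [← this]
    exact inv_mul_cancel _
  · intro h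
    refine MonoidHom.ext fun t => ?_
    have := DFunLike.congr_fun h t
    rw [MonoidHom.pow_apply, sq, MonoidHom.one_apply] at this
    rw [MonoidHom.comp_apply, slDat_swap, map_inv]
    exact inv_eq_of_mul_eq_one_left this

variable [Fintype F]

theorem card_slT : Nat.card (slDat F).T = Fintype.card F - 1 := by
  classical
  rw [Nat.card_congr (slT F).toEquiv, Nat.card_eq_fintype_card, Fintype.card_units]

theorem card_glT : Nat.card (glDat F).T = (Fintype.card F - 1) * (Fintype.card F - 1) := by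
  classical
  rw [Nat.card_congr (glT F).toEquiv, Nat.card_prod, Nat.card_eq_fintype_card, Fintype.card_units]

theorem nfix_gl [Fintype ((glDat F).T →* ℂˣ)] [DecidableEq ((glDat F).T →* ℂˣ)] :
    (glDat F).nfix = Fintype.card F - 1 := by
  classical
  rw [Dat.nfix, ← Fintype.card_subtype, ← Nat.card_eq_fintype_card, ← Fintype.card_units, ← Nat.card_eq_fintype_card (α := Fˣ),
    ← card_dual Fˣ]
  refine Nat.card_congr
    { toFun := fun l => MonoidHom.mk' (fun a => l.1 ⟨(a, 1), glDat_mem_T F _⟩) (fun a b => by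
        rw [← map_mul]; exact congrArg l.1 (Subtype.ext (Prod.ext rfl (one_mul (1 : Fˣ)).symm)))
      invFun := fun w => ⟨MonoidHom.mk' (fun t => w (t.1.1 * t.1.2)) (fun s t => by
        rw [← map_mul]; exact congrArg w (mul_mul_mul_comm _ _ _ _)), ?_⟩
      left_inv := fun l => ?_
      right_inv := fun w => ?_ }
  · exact MonoidHom.ext fun t => congrArg w (mul_comm _ _)
  · refine Subtype.ext (MonoidHom.ext fun t => ?_)
    have hsw := DFunLike.congr_fun l.2 ⟨(t.1.2, 1), glDat_mem_T F _⟩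
    change l.1 ⟨(t.1.1 * t.1.2, 1), glDat_mem_T F _⟩ = l.1 t
    have e1 : (⟨(t.1.1 * t.1.2, 1), glDat_mem_T F _⟩ : (glDat F).T) =
        ⟨(t.1.1, 1), glDat_mem_T F _⟩ * ⟨(t.1.2, 1), glDat_mem_T F _⟩ := Subtype.ext (Prod.ext rfl (one_mul (1 : Fˣ)).symm)
    have e2 : t = ⟨(t.1.1, 1), glDat_mem_T F _⟩ * ((glDat F).swap ⟨(t.1.2, 1), glDat_mem_T F _⟩) :=
      Subtype.ext (Prod.ext (mul_one _).symm (one_mul _).symm)
    rw [e1, map_mul]
    conv_rhs => rw [e2, map_mul]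
    rw [← hsw]
    rfl
  · refine MonoidHom.ext fun a => ?_
    change w (a * 1) = w a
    rw [mul_one]

theorem gl_oneOrbit : (glDat F).OneOrbit := fun c hc =>
  ⟨⟨(Units.mk0 c hc, 1), glDat_mem_T F _⟩, by simp⟩

theorem sl_oneOrbit [CharP F 2] : (slDat F).OneOrbit := fun c hc => by
  obtain ⟨a, ha⟩ := FiniteField.isSquare_of_char_two (ringChar.eq F 2) c
  have ha0 : a ≠ 0 := fun h => hc (by rw [ha, h, mul_zero])
  exact ⟨(slT F).symm (Units.mk0 a ha0), by simp [slT, ha]⟩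

theorem nfix_sl_even [CharP F 2] [Fintype ((slDat F).T →* ℂˣ)] [DecidableEq ((slDat F).T →* ℂˣ)] :
    (slDat F).nfix = 1 := by
  classical
  rw [Dat.nfix, Finset.card_eq_one]
  refine ⟨1, ?_⟩
  ext l
  simp only [Finset.mem_filter, Finset.mem_univ, true_and, Finset.mem_singleton, slDat_fixed_iff]
  refine ⟨fun h => ?_, fun h => by subst h; exact one_pow (M := (slDat F).T →* ℂˣ) 2⟩
  have hodd : ¬ 2 ∣ Nat.card ((slDat F).T →* ℂˣ) := by
    rw [card_dual, card_slT]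
    have h1 : Fintype.card F % 2 = 0 := (FiniteField.even_card_iff_char_two).1 (ringChar.eq F 2)
    have h2 : 2 ≤ Fintype.card F := Fintype.one_lt_card
    omega
  by_contra hne
  have h3 := orderOf_dvd_natCard l
  rw [orderOf_eq_prime h hne] at h3
  exact hodd h3

theorem nfix_sl_odd (hodd : Odd (Fintype.card F)) [Fintype ((slDat F).T →* ℂˣ)] [DecidableEq ((slDat F).T →* ℂˣ)] :
    (slDat F).nfix = 2 := by
  classical
  rw [Dat.nfix, Finset.filter_congr (fun l _ => slDat_fixed_iff F l), ← Fintype.card_subtype, ← Nat.card_eq_fintype_card]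
  have : NeZero (Monoid.exponent (slDat F).T) := ⟨Monoid.exponent_ne_zero_of_finite⟩
  have : NeZero (Monoid.exponent (slDat F).T : ℂ) := NeZero.charZero
  obtain ⟨e⟩ := CommGroup.monoidHom_mulEquiv_of_hasEnoughRootsOfUnity (slDat F).T ℂ
  let E := e.trans (slT F)
  rw [Nat.card_congr (E.toEquiv.subtypeEquiv (q := fun a : Fˣ => a ^ 2 = 1) fun l => by
    simp [← map_pow])]
  refine (Nat.card_congr ?_).trans (Two.card_sign (F := F) hodd)
  exact
    { toFun := fun a => ⟨(a.1 : F), by rw [← sq, ← Units.val_pow_eq_pow_val, a.2, Units.val_one]⟩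
      invFun := fun e => ⟨Units.mk0 e.1 (fun h => by simpa [h] using e.2), Units.ext (by simpa [sq] using e.2)⟩
      left_inv := fun a => Subtype.ext (Units.ext rfl)
      right_inv := fun e => Subtype.ext rfl }

theorem exists_addChar : ∃ ψ : AddChar F ℂ, ψ ≠ 1 := by
  obtain ⟨ψ, hψ⟩ := AddChar.exists_apply_ne_zero.2 (one_ne_zero : (1 : F) ≠ 0)
  exact ⟨ψ, fun h => hψ (by rw [h, AddChar.one_apply])⟩

theorem gl_types [Fintype (GL (Fin 2) F)] [Fintype ((glDat F).T →* ℂˣ)] [DecidableEq ((glDat F).T →* ℂˣ)]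
    {ψ : AddChar F ℂ} (hψ : ψ ≠ 1) :
    (∀ χ : IrrCharacter (GL (Fin 2) F), ((glDat F).A χ = 1 ∧ (glDat F).M ψ χ = 0) ∨
      ((glDat F).A χ = 1 ∧ (glDat F).M ψ χ = 1) ∨ ((glDat F).A χ = 2 ∧ (glDat F).M ψ χ = 1) ∨
      ((glDat F).A χ = 0 ∧ (glDat F).M ψ χ = 1)) ∧
    2 * (Finset.univ.filter fun χ : IrrCharacter (GL (Fin 2) F) => (glDat F).A χ = 0).card =
      Fintype.card F * (Fintype.card F - 1) ∧
    (Finset.univ.filter fun χ : IrrCharacter (GL (Fin 2) F) => (glDat F).A χ = 1 ∧ (glDat F).M ψ χ = 0).card =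
      Fintype.card F - 1 ∧
    (Finset.univ.filter fun χ : IrrCharacter (GL (Fin 2) F) => (glDat F).A χ = 1 ∧ (glDat F).M ψ χ = 1).card =
      Fintype.card F - 1 := by
  classical
  obtain ⟨r, hr⟩ : ∃ r, Fintype.card F = r + 2 := ⟨Fintype.card F - 2, by have := Fintype.one_lt_card (α := F); omega⟩
  have hdvd : 2 ∣ Fintype.card F * (Fintype.card F - 1) := by
    rw [hr, mul_comm, show r + 2 - 1 = r + 1 by omega]
    exact (Nat.even_mul_succ_self (r + 1)).two_dvd
  obtain ⟨N, hN⟩ := hdvd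
  have hG : Nat.card (GL (Fin 2) F) = (Fintype.card F ^ 2 - 1) * (Fintype.card F ^ 2 - Fintype.card F) := by
    rw [Matrix.card_GL_field]; simp [Fin.prod_univ_two]
  have e1 : r + 2 - 1 = r + 1 := by omega
  have e2 : (r + 2) ^ 2 - 1 = r ^ 2 + 4 * r + 3 := by
    rw [show (r + 2) ^ 2 = (r ^ 2 + 4 * r + 3) + 1 by ring]; exact Nat.add_sub_cancel _ _
  have e3 : (r + 2) ^ 2 - (r + 2) = (r + 2) * (r + 1) := by
    rw [show (r + 2) ^ 2 = (r + 2) * (r + 1) + (r + 2) by ring]; exact Nat.add_sub_cancel _ _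
  rw [hr, e1] at hN
  obtain ⟨h1, h2, h3, h4⟩ := (gl_oneOrbit F).types hψ N
    (by rw [Two.card_classes_gl, nfix_gl, card_glT, hr, e1, e2, ← hN]; ring)
    (by rw [hG, nfix_gl, card_glT, hr, e1, e2, e3, ← hN]; ring)
  refine ⟨h1, ?_, h3.trans (nfix_gl F), h4.trans (nfix_gl F)⟩
  rw [h2, hr, e1, hN]

theorem sl_even_types [CharP F 2] [Fintype SL(2, F)] [Fintype ((slDat F).T →* ℂˣ)] [DecidableEq ((slDat F).T →* ℂˣ)]
    {ψ : AddChar F ℂ} (hψ : ψ ≠ 1) :
    (∀ χ : IrrCharacter SL(2, F), ((slDat F).A χ = 1 ∧ (slDat F).M ψ χ = 0) ∨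
      ((slDat F).A χ = 1 ∧ (slDat F).M ψ χ = 1) ∨ ((slDat F).A χ = 2 ∧ (slDat F).M ψ χ = 1) ∨
      ((slDat F).A χ = 0 ∧ (slDat F).M ψ χ = 1)) ∧
    2 * (Finset.univ.filter fun χ : IrrCharacter SL(2, F) => (slDat F).A χ = 0).card = Fintype.card F ∧
    (Finset.univ.filter fun χ : IrrCharacter SL(2, F) => (slDat F).A χ = 1 ∧ (slDat F).M ψ χ = 0).card = 1 ∧
    (Finset.univ.filter fun χ : IrrCharacter SL(2, F) => (slDat F).A χ = 1 ∧ (slDat F).M ψ χ = 1).card = 1 := by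
  classical
  obtain ⟨r, hr⟩ : ∃ r, Fintype.card F = r + 2 := ⟨Fintype.card F - 2, by have := Fintype.one_lt_card (α := F); omega⟩
  have h0 : Fintype.card F % 2 = 0 := (FiniteField.even_card_iff_char_two).1 (ringChar.eq F 2)
  obtain ⟨N, hN⟩ : ∃ N, r + 2 = 2 * N := ⟨(r + 2) / 2, by omega⟩
  have e1 : r + 2 - 1 = r + 1 := by omega
  have e2 : (r + 2) ^ 2 - 1 = r ^ 2 + 4 * r + 3 := by
    rw [show (r + 2) ^ 2 = (r ^ 2 + 4 * r + 3) + 1 by ring]; exact Nat.add_sub_cancel _ _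
  obtain ⟨h1, h2, h3, h4⟩ := (sl_oneOrbit F).types hψ N
    (by rw [Two.card_classes_sl_even, nfix_sl_even, card_slT, hr, e1, ← hN]; ring)
    (by
      rw [Cfsg.Agent.Lib.Classical.card_SL_two, nfix_sl_even, card_slT, hr, e1, e2, ← hN]; ring)
  exact ⟨h1, by rw [h2, hr, hN], h3.trans (nfix_sl_even F), h4.trans (nfix_sl_even F)⟩

end Cfsg.Agent.Lib.TwoChar
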