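import Cfsg.Agent.Lib.TwoChar.Types
import Cfsg.Agent.Lib.Char.Degree

/-!
# Character types when the torus has one orbit on the nontrivial root group characters
-/

set_option autoImplicit false

open scoped MatrixGroups ComplexConjugate

namespace Cfsg.Agent.Lib.TwoChar

open Cfsg Cfsg.Agent.Lib.Char Matrix

universe u v

variable {F : Type u} [Field F] [Fintype F] {G : Type v} [Group G] [Fintype G]

namespace Dat

variable (d : Dat F G)

/-- The torus is transitive on nonzero scalars through the root action. -/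
def OneOrbit : Prop := ∀ c : F, c ≠ 0 → ∃ t : d.T, (t.1.1 : F) / (t.1.2 : F) = c

variable {d}

theorem OneOrbit.M_mulShift (h : d.OneOrbit) (ψ : AddChar F ℂ) (χ : IrrCharacter G) {c : F} (hc : c ≠ 0) :
    d.M (ψ.mulShift c) χ = d.M ψ χ := by
  obtain ⟨t, ht⟩ := h c hc
  have := d.m_mulShift_torus ψ (isClassFunction_of_isIrr χ.2) t 1
  rw [ht, one_mul, AddChar.mulShift_one, M_spec, M_spec] at this
  exact_mod_cast this

theorem OneOrbit.apply_one (h : d.OneOrbit) {ψ : AddChar F ℂ} (hψ : ψ ≠ 1) (χ : IrrCharacter G) :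
    (χ : G → ℂ) 1 = ((d.A χ + (Fintype.card F - 1) * d.M ψ χ : ℕ) : ℂ) := by
  classical
  rw [d.degree_eq hψ χ, Finset.sum_congr rfl fun c hc => by
    rw [h.M_mulShift ψ χ (Finset.ne_of_mem_erase hc)], Finset.sum_const, Finset.card_erase_of_mem (Finset.mem_univ _),
    Finset.card_univ, nsmul_eq_mul]
  push_cast
  ring

theorem OneOrbit.apply_uu (h : d.OneOrbit) {ψ : AddChar F ℂ} (hψ : ψ ≠ 1) (χ : IrrCharacter G) {x : F} (hx : x ≠ 0) :
    (χ : G → ℂ) (d.uu x) = (d.A χ : ℂ) - (d.M ψ χ : ℂ) := by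
  classical
  rw [d.fourier_inv hψ (χ : G → ℂ), ← Finset.add_sum_erase _ _ (Finset.mem_univ (0 : F)),
    Finset.sum_congr rfl fun c hc => by
      rw [M_spec, h.M_mulShift ψ χ (Finset.ne_of_mem_erase hc)], ← Finset.mul_sum]
  have hs : ∑ c ∈ Finset.univ.erase (0 : F), ψ (c * x) = -1 := by
    have h0 := sum_addChar hψ x
    rw [if_neg hx, ← Finset.add_sum_erase _ _ (Finset.mem_univ (0 : F)), zero_mul, AddChar.map_zero_eq_one] at h0
    linear_combination h0
  rw [hs, AddChar.mulShift_zero, M_spec, zero_mul, AddChar.map_zero_eq_one, A]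
  ring

variable [Fintype (d.T →* ℂˣ)] [DecidableEq (d.T →* ℂˣ)]

/-- The four types and the number of cuspidal characters. -/
theorem OneOrbit.types (h : d.OneOrbit) {ψ : AddChar F ℂ} (hψ : ψ ≠ 1) (N : ℕ)
    (hK : 2 * Nat.card (ConjClasses G) + d.nfix = Nat.card d.T + 4 * d.nfix + 2 * N)
    (hG : 2 * Nat.card G + d.nfix * (Fintype.card F + 1) ^ 2 =
      Nat.card d.T * (Fintype.card F + 1) ^ 2 + 2 * d.nfix * (1 + Fintype.card F ^ 2) +
        2 * N * (Fintype.card F - 1) ^ 2) :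
    (∀ χ : IrrCharacter G, (d.A χ = 1 ∧ d.M ψ χ = 0) ∨ (d.A χ = 1 ∧ d.M ψ χ = 1) ∨
      (d.A χ = 2 ∧ d.M ψ χ = 1) ∨ (d.A χ = 0 ∧ d.M ψ χ = 1)) ∧
    (Finset.univ.filter fun χ : IrrCharacter G => d.A χ = 0).card = N ∧
    (Finset.univ.filter fun χ : IrrCharacter G => d.A χ = 1 ∧ d.M ψ χ = 0).card = d.nfix ∧
    (Finset.univ.filter fun χ : IrrCharacter G => d.A χ = 1 ∧ d.M ψ χ = 1).card = d.nfix := by
  classical
  set q := Fintype.card F with hq
  have hdeg : ∀ χ : IrrCharacter G, charDegree (χ : G → ℂ) = d.A χ + (q - 1) * d.M ψ χ := fun χ =>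
    charDegree_eq_of_apply_one (h.apply_one hψ χ)
  have hk2 := d.two_mul_card_A_two
  have hk1 := d.card_A_one
  have hcard : Nat.card (ConjClasses G) = (Finset.univ.filter fun χ : IrrCharacter G => d.A χ = 0).card +
      (Finset.univ.filter fun χ : IrrCharacter G => d.A χ = 1).card +
      (Finset.univ.filter fun χ : IrrCharacter G => d.A χ = 2).card := by
    rw [← card_irr_eq_card_conjClasses, Nat.card_eq_fintype_card, ← Finset.card_univ,
      Finset.card_eq_sum_ones (Finset.univ : Finset (IrrCharacter G))]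
    simp only [Finset.card_filter, ← Finset.sum_add_distrib]
    refine Finset.sum_congr rfl fun χ _ => ?_
    rcases d.A_cases χ with e | e | e <;> simp [e]
  have hN : (Finset.univ.filter fun χ : IrrCharacter G => d.A χ = 0).card = N := by omega
  have hM1 := d.card_A_one_M hψ
  have hA1M : ∀ χ : IrrCharacter G, d.A χ = 1 → d.M ψ χ ≤ 1 := fun χ e => d.M_le_of_A_one e hψ
  have h11 : (Finset.univ.filter fun χ : IrrCharacter G => d.A χ = 1 ∧ d.M ψ χ = 1).card = d.nfix := by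
    rw [← hM1, Finset.sum_filter, Finset.card_filter]
    refine Finset.sum_congr rfl fun χ _ => ?_
    by_cases e : d.A χ = 1
    · have := hA1M χ e
      interval_cases d.M ψ χ <;> simp [e]
    · simp [e]
  have h10 : (Finset.univ.filter fun χ : IrrCharacter G => d.A χ = 1 ∧ d.M ψ χ = 0).card = d.nfix := by
    have : (Finset.univ.filter fun χ : IrrCharacter G => d.A χ = 1 ∧ d.M ψ χ = 0).card +
        (Finset.univ.filter fun χ : IrrCharacter G => d.A χ = 1 ∧ d.M ψ χ = 1).card =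
        (Finset.univ.filter fun χ : IrrCharacter G => d.A χ = 1).card := by
      simp only [Finset.card_filter, ← Finset.sum_add_distrib]
      refine Finset.sum_congr rfl fun χ _ => ?_
      by_cases e : d.A χ = 1
      · have := hA1M χ e
        interval_cases d.M ψ χ <;> simp [e]
      · simp [e]
    omega
  have hsq := sum_charDegree_sq (G := G)
  have hterm : ∀ χ : IrrCharacter G, charDegree (χ : G → ℂ) ^ 2 =
      (if d.A χ = 2 then (q + 1) ^ 2 else 0) + (if d.A χ = 1 ∧ d.M ψ χ = 0 then 1 else 0) +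
        (if d.A χ = 1 ∧ d.M ψ χ = 1 then q ^ 2 else 0) + (q - 1) ^ 2 * (if d.A χ = 0 then d.M ψ χ ^ 2 else 0) := by
    intro χ
    have hq1 : 1 ≤ q := Fintype.card_pos
    rw [hdeg]
    rcases d.A_cases χ with e | e | e
    · simp [e, mul_pow]
    · have := hA1M χ e
      interval_cases hm : d.M ψ χ
      · simp [e, hm]
      · simp [e, hm, Nat.add_sub_cancel' hq1]
    · rw [d.M_of_A_two e hψ]
      simp [e, show 2 + (q - 1) = q + 1 by omega]
  rw [Finset.sum_congr rfl fun χ _ => hterm χ] at hsq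
  simp only [Finset.sum_add_distrib, ← Finset.mul_sum] at hsq
  rw [← Finset.sum_filter, ← Finset.sum_filter, ← Finset.sum_filter, ← Finset.sum_filter, Finset.sum_const,
    Finset.sum_const, Finset.sum_const, h10, h11, smul_eq_mul, smul_eq_mul, smul_eq_mul] at hsq
  have hpos : ∀ χ : IrrCharacter G, d.A χ = 0 → 1 ≤ d.M ψ χ := fun χ e => by
    by_contra hc
    have h0 := charDegree_pos χ.2
    rw [hdeg, e, show d.M ψ χ = 0 by omega] at h0
    simp at h0
  have hS : ∑ χ : IrrCharacter G with d.A χ = 0, d.M ψ χ ^ 2 ≤ N := by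
    have hq0 : 0 < (q - 1) ^ 2 := pow_pos (Nat.sub_pos_of_lt Fintype.one_lt_card) 2
    refine Nat.le_of_mul_le_mul_left ?_ hq0
    nlinarith [hsq, hG, hk2]
  have hone : ∀ χ : IrrCharacter G, d.A χ = 0 → d.M ψ χ = 1 := by
    intro χ e
    by_contra hne
    have h1 : ∑ χ : IrrCharacter G with d.A χ = 0, 1 < ∑ χ : IrrCharacter G with d.A χ = 0, d.M ψ χ ^ 2 := by
      refine Finset.sum_lt_sum (fun ξ hξ => Nat.one_le_pow _ _ (hpos ξ (Finset.mem_filter.mp hξ).2))
        ⟨χ, Finset.mem_filter.mpr ⟨Finset.mem_univ _, e⟩, ?_⟩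
      have := hpos χ e
      exact Nat.one_lt_pow two_ne_zero (by omega)
    rw [← Finset.card_eq_sum_ones, hN] at h1
    omega
  refine ⟨fun χ => ?_, hN, h10, h11⟩
  rcases d.A_cases χ with e | e | e
  · exact Or.inr (Or.inr (Or.inr ⟨e, hone χ e⟩))
  · have := hA1M χ e
    rcases Nat.le_one_iff_eq_zero_or_eq_one.mp this with e' | e'
    · exact Or.inl ⟨e, e'⟩
    · exact Or.inr (Or.inl ⟨e, e'⟩)
  · exact Or.inr (Or.inr (Or.inl ⟨e, d.M_of_A_two e hψ⟩))

omit [DecidableEq (d.T →* ℂˣ)] in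
/-- A linear constituent of a principal series restricts to the torus character. -/
theorem linear_apply_tt {l : d.T →* ℂˣ} {χ : IrrCharacter G} (h1 : (χ : G → ℂ) 1 = 1) (hC : d.C l χ ≠ 0)
    (t : d.T) : (χ : G → ℂ) (d.tt t) = (l t : ℂ) := by
  classical
  obtain ⟨w, hw⟩ := exists_hom_of_degree_one (isCharacter_of_isIrr χ.2) h1
  have h := d.C_spec l χ
  rw [I, classInner_indFun _ _ (isClassFunction_of_isIrr χ.2), classInner] at h
  have hsum : ∑ b : d.B, ((l.comp d.proj) b : ℂ) * conj ((w.comp d.B.subtype) b : ℂ) ≠ 0 := by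
    intro h0
    apply hC
    have : (d.C l χ : ℂ) = 0 := by
      rw [← h]
      simp only [pch, hw]
      simp only [MonoidHom.comp_apply] at h0
      rw [show (∑ x : d.B, (l (d.proj x) : ℂ) * conj (w x.1 : ℂ)) = 0 from h0, mul_zero]
    exact_mod_cast this
  rw [sum_hom_mul_conj] at hsum
  have he : l.comp d.proj = w.comp d.B.subtype := by
    by_contra hne
    exact hsum (if_neg hne)
  have hm : d.tt t ∈ d.B := by rw [mem_B, mat_tt]; simp
  have h2 := DFunLike.congr_fun he ⟨_, hm⟩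
  have hp : d.proj ⟨_, hm⟩ = t := Subtype.ext (Prod.ext (Units.ext (by rw [proj_fst]; simp [mat_tt]))
    (Units.ext (by rw [proj_snd]; simp [mat_tt])))
  simp only [MonoidHom.comp_apply, hp] at h2
  rw [hw, h2]
  rfl

omit [DecidableEq (d.T →* ℂˣ)] in
/-- The nonlinear constituent of a fixed principal series. -/
theorem partner {ψ : AddChar F ℂ} (hψ : ψ ≠ 1) {χ : IrrCharacter G} (hA : d.A χ = 1) (hM : d.M ψ χ = 1) :
    ∃ (l : d.T →* ℂˣ) (χ₀ : IrrCharacter G), l.comp d.swap = l ∧ d.C l χ₀ = 1 ∧ d.A χ₀ = 1 ∧ d.M ψ χ₀ = 0 ∧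
      ∀ g, (χ : G → ℂ) g = d.I l g - (χ₀ : G → ℂ) g := by
  classical
  obtain ⟨l, hl, hC⟩ := d.exists_fixed_of_A_one hA
  have hs := d.sum_C l
  rw [if_pos hl, ← Finset.add_sum_erase _ _ (Finset.mem_univ χ), hC] at hs
  obtain ⟨χ₀, hm, h0⟩ : ∃ ξ ∈ Finset.univ.erase χ, d.C l ξ ≠ 0 := Finset.exists_ne_zero_of_sum_ne_zero (by omega)
  have hC0 : d.C l χ₀ = 1 := le_antisymm (d.C_le_one l χ₀) (Nat.one_le_iff_ne_zero.mpr h0)
  rw [← Finset.add_sum_erase _ _ hm, hC0] at hs
  have hrest : ∀ ξ, ξ ≠ χ → ξ ≠ χ₀ → d.C l ξ = 0 := fun ξ e1 e2 =>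
    (Finset.sum_eq_zero_iff.mp (by omega : ∑ x ∈ (Finset.univ.erase χ).erase χ₀, d.C l x = 0)) ξ (by simp [e1, e2])
  refine ⟨l, χ₀, hl, hC0, d.fixed_spec hl h0, ?_, fun g => ?_⟩
  · have h := d.sum_C_M l hψ
    rw [← Finset.add_sum_erase _ _ (Finset.mem_univ χ), ← Finset.add_sum_erase _ _ hm, hC, hC0, hM] at h
    omega
  · rw [d.I_expand, ← Finset.add_sum_erase _ _ (Finset.mem_univ χ), ← Finset.add_sum_erase _ _ hm, hC, hC0,
      Finset.sum_eq_zero fun ξ hξ => by
        simp only [Finset.mem_erase] at hξ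
        simp [hrest ξ hξ.2.1 hξ.1]]
    push_cast
    ring

omit [DecidableEq (d.T →* ℂˣ)] in
theorem OneOrbit.norm_fixed_tt (h : d.OneOrbit) {ψ : AddChar F ℂ} (hψ : ψ ≠ 1) {χ : IrrCharacter G}
    (hA : d.A χ = 1) {t : d.T} (ht : t.1.1 ≠ t.1.2) :
    (χ : G → ℂ) (d.tt t) * conj ((χ : G → ℂ) (d.tt t)) = 1 := by
  classical
  have hlin : ∀ ξ : IrrCharacter G, d.A ξ = 1 → d.M ψ ξ = 0 → (ξ : G → ℂ) 1 = 1 := fun ξ e e' => by
    rw [h.apply_one hψ, e, e']; simp
  rcases Nat.le_one_iff_eq_zero_or_eq_one.mp (d.M_le_of_A_one hA hψ) with hM | hM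
  · obtain ⟨l, hl, hC⟩ := d.exists_fixed_of_A_one hA
    rw [linear_apply_tt (hlin χ hA hM) (by omega : d.C l χ ≠ 0) t]
    exact linear_conj_mul l t
  · obtain ⟨l, χ₀, hl, hC, hA0, hM0, hval⟩ := partner hψ hA hM
    rw [hval, d.I_tt l t ht, linear_apply_tt (hlin χ₀ hA0 hM0) (by omega : d.C l χ₀ ≠ 0) t,
      show l (d.swap t) = l t from DFunLike.congr_fun hl t, add_sub_cancel_right]
    exact linear_conj_mul l t

end Dat

end Cfsg.Agent.Lib.TwoChar
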