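import Cfsg.Agent.Lib.TwoChar.SLOddValues
import Cfsg.Agent.Lib.TwoChar.DegreeCounts
import Cfsg.Agent.Lib.CharKernel
import Cfsg.Agent.Lib.Char.Scalar
import Cfsg.Agent.Lib.Two.PSL
import Cfsg.Prelude.Def_DegreeGraph

/-!
# Degrees of the characters of `SL(2, q)` and `PSL(2, q)`
-/

set_option autoImplicit false

open scoped MatrixGroups ComplexConjugate

namespace Cfsg.Agent.Lib.TwoChar

open Cfsg Cfsg.Agent.Lib.Char Matrix

universe u v

section Generic

variable {G : Type u} [Group G] [Finite G] {H : Type v} [Group H] [Finite H]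

theorem charDegrees_subset_of_surjective (f : G →* H) (hf : Function.Surjective f) :
    charDegrees H ⊆ charDegrees G := by
  rintro _ ⟨η, rfl⟩
  exact ⟨⟨(η : H → ℂ) ∘ f, isIrrCharacter_comp η.2 f hf⟩, congrArg (fun z : ℂ => ⌊z.re⌋₊) (congrArg η.1 (map_one f))⟩

theorem charDegrees_congr (e : G ≃* H) : charDegrees G = charDegrees H :=
  Set.Subset.antisymm (charDegrees_subset_of_surjective e.symm.toMonoidHom e.symm.surjective)
    (charDegrees_subset_of_surjective e.toMonoidHom e.surjective)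

theorem mem_charDegrees_quotient (N : Subgroup G) [N.Normal] (χ : IrrCharacter G)
    (h : ∀ n ∈ N, (χ : G → ℂ) n = (χ : G → ℂ) 1) {n : ℕ} (h1 : (χ : G → ℂ) 1 = n) : n ∈ charDegrees (G ⧸ N) := by
  obtain ⟨η, hη, he⟩ := Cfsg.Agent.Lib.CharKernel.exists_irr_quotient N χ.2 h
  exact ⟨⟨η, hη⟩, charDegree_eq_of_apply_one (by rw [← h1, ← he 1]; rfl)⟩

/-- A central element of order at most two takes plus or minus the degree. -/
theorem apply_central_sq {χ : G → ℂ} (hχ : IsIrrCharacter G χ) {z : G} (hz : z ∈ Subgroup.center G)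
    (h2 : z * z = 1) : χ z = χ 1 ∨ χ z = -χ 1 := by
  have h := (apply_mul_of_norm_eq (isCharacter_of_isIrr hχ) (norm_char_of_mem_center hχ hz) z).1
  rw [h2] at h
  exact mul_self_eq_mul_self_iff.mp h.symm

end Generic

variable (F : Type u) [Field F]

/-- Minus the identity. -/
noncomputable def negOne : SL(2, F) := (slDat F).mk1 !![-1, 0; 0, -1] (by simp [det_fin_two])

theorem coe_negOne : (negOne F : Matrix (Fin 2) (Fin 2) F) = !![-1, 0; 0, -1] := (slDat F).mat_mk1 _ _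

theorem negOne_mem_center : negOne F ∈ Subgroup.center SL(2, F) :=
  (Two.mem_center_iff_sign _).2 ⟨-1, by ring, by
    rw [coe_negOne]
    ext i j; fin_cases i <;> fin_cases j <;> simp⟩

theorem negOne_mul_self : negOne F * negOne F = 1 := Subtype.ext (by
  rw [Matrix.SpecialLinearGroup.coe_mul, coe_negOne, Matrix.SpecialLinearGroup.coe_one]
  ext i j; fin_cases i <;> fin_cases j <;> simp [Matrix.mul_apply])

theorem trivial_on_center {χ : SL(2, F) → ℂ} (h : χ (negOne F) = χ 1) :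
    ∀ n ∈ Subgroup.center SL(2, F), χ n = χ 1 := by
  intro n hn
  obtain ⟨e, he, hn'⟩ := (Two.mem_center_iff_sign n).1 hn
  rcases mul_self_eq_one_iff.1 he with rfl | rfl
  · rw [show n = 1 from Subtype.ext (by rw [hn', one_smul, Matrix.SpecialLinearGroup.coe_one])]
  · rw [show n = negOne F from Subtype.ext (by
      rw [hn', coe_negOne]
      ext i j; fin_cases i <;> fin_cases j <;> simp)]
    exact h

variable [Fintype F]

theorem I_negOne [Fintype SL(2, F)] (l : (slDat F).T →* ℂˣ) :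
    (slDat F).I l (negOne F) = ((Fintype.card F : ℂ) + 1) * (l ((slT F).symm (-1)) : ℂ) := by
  classical
  have hm : negOne F ∈ (slDat F).B := ((slDat F).mem_B _).2 (by
    change (negOne F : Matrix (Fin 2) (Fin 2) F) 1 0 = 0
    rw [coe_negOne]; simp)
  have hp : (slDat F).proj ⟨_, hm⟩ = (slT F).symm (-1) := by
    refine (slT F).injective ?_
    rw [MulEquiv.apply_symm_apply]
    refine Units.ext ?_
    change (negOne F : Matrix (Fin 2) (Fin 2) F) 0 0 = _
    rw [coe_negOne]; simp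
  have hs : (slDat F).swap ((slT F).symm (-1)) = (slT F).symm (-1) := by
    rw [slDat_swap, ← map_inv, inv_neg_one]
  rw [(slDat F).I_borel l ⟨_, hm⟩, hp, hs]
  have hz : ∀ x : F, ((slDat F).mat (negOne F) 1 1 - (slDat F).mat (negOne F) 0 0) * x =
      (slDat F).mat (negOne F) 0 1 := fun x => by
    have e : (slDat F).mat (negOne F) = !![-1, 0; 0, -1] := coe_negOne F
    simp [e]
  rw [Nat.card_congr (Equiv.subtypeUnivEquiv hz), Nat.card_eq_fintype_card]
  ring

variable [Fintype SL(2, F)] [DecidableEq F] {F} (hodd : Odd (Fintype.card F)) {η : F} (hη : ¬ IsSquare η)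
  {ψ : AddChar F ℂ} (hψ : ψ ≠ 1)

include hodd hη hψ in
/-- Some cuspidal character of degree `q - 1` is trivial on the centre. -/
theorem exists_cusp_trivial (hq : 5 ≤ Fintype.card F) : ∃ χ : IrrCharacter SL(2, F),
    (slDat F).A χ = 0 ∧ (slDat F).M ψ χ = 1 ∧ (slDat F).M (ψ.mulShift η) χ = 1 ∧
      (χ : SL(2, F) → ℂ) (negOne F) = (χ : SL(2, F) → ℂ) 1 := by
  classical
  letI : Fintype ((slDat F).T →* ℂˣ) := @Fintype.ofFinite _ (finite_dual _)
  obtain ⟨T⟩ := exists_table hodd hη hψ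
  obtain ⟨htyp, -, hc, hc1, hc2⟩ := types_odd hodd hη hψ
  set z := negOne F with hz
  obtain ⟨j, hj⟩ : ∃ j, Fintype.card F = 2 * j + 5 := by
    obtain ⟨r, hr⟩ := hodd
    exact ⟨r - 2, by omega⟩
  have h2 : (2 : F) ≠ 0 := Two.two_ne_zero_of_odd hodd
  have hzne : ∀ x : F, ¬ IsConj z ((slDat F).uu x) := fun x h => by
    obtain ⟨y, hy⟩ := isConj_iff.1 h
    rw [Subgroup.mem_center_iff.1 (negOne_mem_center F) y, mul_inv_cancel_right] at hy
    have e := congrArg (slDat F).mat hy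
    rw [(slDat F).mat_uu, show (slDat F).mat z = !![-1, 0; 0, -1] from coe_negOne F] at e
    have := congrFun (congrFun e 0) 0
    simp at this
    exact h2 (by linear_combination -this)
  have orth : ∀ x : F, ∑ χ : IrrCharacter SL(2, F), (χ : SL(2, F) → ℂ) z * conj ((χ : SL(2, F) → ℂ) ((slDat F).uu x)) = 0 :=
    fun x => (CharTools.sum_irr_mul_conj' z ((slDat F).uu x)).trans (if_neg (hzne x))
  have hη0 : η ≠ 0 := nonsquare_ne_zero hη
  have hterm : ∀ χ : IrrCharacter SL(2, F), (χ : SL(2, F) → ℂ) ((slDat F).uu 1) + (χ : SL(2, F) → ℂ) ((slDat F).uu η) =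
      ((2 * (slDat F).A χ : ℕ) : ℂ) - (((slDat F).M ψ χ + (slDat F).M (ψ.mulShift η) χ : ℕ) : ℂ) := fun χ => by
    rw [apply_uu_odd hη hψ χ one_ne_zero, apply_uu_odd hη hψ χ hη0, qc_of_not_isSquare hη, MulChar.map_one]
    push_cast
    ring
  set k := (Fintype.card F - 1) / 2 with hk
  have hsum : ∑ χ : IrrCharacter SL(2, F), (χ : SL(2, F) → ℂ) z *
      ((((slDat F).M ψ χ + (slDat F).M (ψ.mulShift η) χ : ℕ) : ℂ) - ((slDat F).A χ : ℂ)) = 0 := by
    have e1 : ∑ χ : IrrCharacter SL(2, F), (χ : SL(2, F) → ℂ) z *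
        (((slDat F).A χ : ℂ) + (k : ℂ) * (((slDat F).M ψ χ + (slDat F).M (ψ.mulShift η) χ : ℕ) : ℂ)) = 0 := by
      refine (Finset.sum_congr rfl fun χ _ => ?_).trans (orth 0)
      rw [(slDat F).uu_zero, apply_one_odd hodd hη hψ χ, Complex.conj_natCast]
      push_cast
      rfl
    have e2 : ∑ χ : IrrCharacter SL(2, F), (χ : SL(2, F) → ℂ) z *
        (2 * ((slDat F).A χ : ℂ) - (((slDat F).M ψ χ + (slDat F).M (ψ.mulShift η) χ : ℕ) : ℂ)) = 0 := by
      refine (Finset.sum_congr rfl fun χ _ => ?_).trans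
        ((Finset.sum_add_distrib.trans (by rw [orth 1, orth η, add_zero]) :
          ∑ χ : IrrCharacter SL(2, F), ((χ : SL(2, F) → ℂ) z * conj ((χ : SL(2, F) → ℂ) ((slDat F).uu 1)) +
            (χ : SL(2, F) → ℂ) z * conj ((χ : SL(2, F) → ℂ) ((slDat F).uu η))) = 0))
      rw [← mul_add, ← map_add, hterm, map_sub, Complex.conj_natCast, Complex.conj_natCast]
      push_cast
      rfl
    have hne : (2 : ℂ) * (k : ℂ) + 1 ≠ 0 := by exact_mod_cast (show 2 * k + 1 ≠ 0 by omega)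
    refine mul_left_cancel₀ hne ?_
    rw [mul_zero, Finset.mul_sum]
    have e3 : ∑ χ : IrrCharacter SL(2, F), ((1 : ℂ) * ((χ : SL(2, F) → ℂ) z *
        (((slDat F).A χ : ℂ) + (k : ℂ) * (((slDat F).M ψ χ + (slDat F).M (ψ.mulShift η) χ : ℕ) : ℂ))) + (-((k : ℂ) + 1)) *
        ((χ : SL(2, F) → ℂ) z * (2 * ((slDat F).A χ : ℂ) - (((slDat F).M ψ χ + (slDat F).M (ψ.mulShift η) χ : ℕ) : ℂ)))) = 0 := by
      rw [Finset.sum_add_distrib, ← Finset.mul_sum, ← Finset.mul_sum, e1, e2]; ring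
    exact (Finset.sum_congr rfl fun χ _ => by ring).trans e3
  by_contra hall
  push Not at hall
  have hcz : negOne F ∈ Subgroup.center SL(2, F) := negOne_mem_center F
  have hb : ∀ χ : IrrCharacter SL(2, F), (((χ : SL(2, F) → ℂ) z *
      ((((slDat F).M ψ χ + (slDat F).M (ψ.mulShift η) χ : ℕ) : ℂ) - ((slDat F).A χ : ℂ))).re : ℝ) ≤
      (if χ = Dat.triv SL(2, F) then -1 else 0) + (if χ = T.st then ((2 * j + 5 : ℕ) : ℝ) else 0) +
      (if (slDat F).A χ = 0 ∧ (slDat F).M ψ χ = 1 ∧ (slDat F).M (ψ.mulShift η) χ = 1 then -((4 * j + 8 : ℕ) : ℝ) else 0) +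
      (if (slDat F).A χ = 0 ∧ (slDat F).M ψ χ = 1 ∧ (slDat F).M (ψ.mulShift η) χ = 0 then ((j + 2 : ℕ) : ℝ) else 0) +
      (if (slDat F).A χ = 0 ∧ (slDat F).M ψ χ = 0 ∧ (slDat F).M (ψ.mulShift η) χ = 1 then ((j + 2 : ℕ) : ℝ) else 0) := by
    intro χ
    have hd1 := apply_one_odd hodd hη hψ χ
    rw [show (Fintype.card F - 1) / 2 = j + 2 by omega] at hd1
    have ht1 : (slDat F).M ψ (Dat.triv SL(2, F)) = 0 := (slDat F).M_triv hψ
    have ht2 : (slDat F).M (ψ.mulShift η) (Dat.triv SL(2, F)) = 0 := (slDat F).M_triv (mulShift_ne hη hψ)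
    have htA := (slDat F).A_triv (G := SL(2, F))
    rcases (slDat F).A_cases χ with e | e | e
    · have n1 : χ ≠ Dat.triv SL(2, F) := fun h => by rw [h, htA] at e; omega
      have n2 : χ ≠ T.st := fun h => by rw [h, T.A_st] at e; omega
      rw [if_neg n1, if_neg n2]
      rcases apply_central_sq χ.2 hcz (negOne_mul_self F) with hs | hs
      · rcases htyp χ with ⟨a, b, c⟩ | ⟨a, b, c⟩ | ⟨a, b, c⟩ | ⟨a, b, c⟩ | ⟨a, b, c⟩ | ⟨a, b, c⟩ | ⟨a, b, c⟩ |
          ⟨a, b, c⟩ <;> try omega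
        · exact absurd hs (hall χ a b c)
        · rw [hz, hs, hd1]; simp [a, b, c]
        · rw [hz, hs, hd1]; simp [a, b, c]
      · rcases htyp χ with ⟨a, b, c⟩ | ⟨a, b, c⟩ | ⟨a, b, c⟩ | ⟨a, b, c⟩ | ⟨a, b, c⟩ | ⟨a, b, c⟩ | ⟨a, b, c⟩ |
          ⟨a, b, c⟩ <;> try omega
        · rw [hz, hs, hd1]; simp [a, b, c]; linarith [(Nat.cast_nonneg j : (0 : ℝ) ≤ j)]
        · rw [hz, hs, hd1]; simp [a, b, c]; linarith [(Nat.cast_nonneg j : (0 : ℝ) ≤ j)]
        · rw [hz, hs, hd1]; simp [a, b, c]; linarith [(Nat.cast_nonneg j : (0 : ℝ) ≤ j)]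
    · rw [if_neg (fun h : (slDat F).A χ = 0 ∧ _ => by omega), if_neg (fun h : (slDat F).A χ = 0 ∧ _ => by omega),
        if_neg (fun h : (slDat F).A χ = 0 ∧ _ => by omega), e]
      rcases (T.A_one χ).mp e with rfl | rfl | rfl | rfl
      · have : Dat.triv SL(2, F) ≠ T.st := fun h => by rw [h, T.M_st.1] at ht1; omega
        rw [if_pos rfl, if_neg this, ht1, ht2]
        simp [Dat.triv]
      · have : T.st ≠ Dat.triv SL(2, F) := fun h => by rw [← h, T.M_st.1] at ht1; omega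
        rw [if_pos rfl, if_neg this, T.M_st.1, T.M_st.2, hz, T.st_apply, I_negOne]
        simp [hj]
        norm_num
      · have : T.hp ≠ Dat.triv SL(2, F) := fun h => by rw [← h, T.M_hp.1] at ht1; omega
        have n' : T.hp ≠ T.st := fun h => by have := T.M_hp.2; rw [h, T.M_st.2] at this; omega
        rw [if_neg this, if_neg n', T.M_hp.1, T.M_hp.2]
        simp
      · have : T.hm ≠ Dat.triv SL(2, F) := fun h => by rw [← h, T.M_hm.2] at ht2; omega
        have n' : T.hm ≠ T.st := fun h => by have := T.M_hm.1; rw [h, T.M_st.1] at this; omega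
        rw [if_neg this, if_neg n', T.M_hm.1, T.M_hm.2]
        simp
    · have n1 : χ ≠ Dat.triv SL(2, F) := fun h => by rw [h, htA] at e; omega
      have n2 : χ ≠ T.st := fun h => by rw [h, T.A_st] at e; omega
      rw [if_neg n1, if_neg n2, e, (slDat F).M_of_A_two e hψ, (slDat F).M_of_A_two e (mulShift_ne hη hψ)]
      simp
  have hre := congrArg Complex.re hsum
  rw [Complex.re_sum, Complex.zero_re] at hre
  have hle := Finset.sum_le_sum (s := Finset.univ) fun χ (_ : χ ∈ Finset.univ) => hb χ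
  rw [hre] at hle
  simp only [Finset.sum_add_distrib, Finset.sum_ite_eq', Finset.mem_univ, if_true, ← Finset.sum_filter,
    Finset.sum_const] at hle
  rw [hc, hc1, hc2, show k = j + 2 by omega] at hle
  simp only [one_smul, nsmul_eq_mul] at hle
  push_cast at hle
  nlinarith [(Nat.cast_nonneg j : (0 : ℝ) ≤ j)]

end Cfsg.Agent.Lib.TwoChar
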