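import Cfsg.Agent.Lib.TwoChar.Principal

/-!
# Constituent pairs of the fixed principal series
-/

set_option autoImplicit false

open scoped MatrixGroups ComplexConjugate

namespace Cfsg.Agent.Lib.TwoChar

open Cfsg Cfsg.Agent.Lib.Char Matrix

universe u v

variable {F : Type u} [Field F] [Fintype F] {G : Type v} [Group G] [Fintype G]

namespace Dat

variable (d : Dat F G)

/-- The trivial character. -/
def triv (G : Type v) [Group G] : IrrCharacter G := ⟨fun _ => 1, isIrrCharacter_one⟩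

theorem M_triv {ψ : AddChar F ℂ} (hψ : ψ ≠ 1) : d.M ψ (triv G) = 0 := by
  have h := d.M_spec ψ (triv G)
  rw [m] at h
  simp only [triv, one_mul, ← map_sum, AddChar.sum_eq_zero_of_ne_one hψ, map_zero, mul_zero] at h
  exact_mod_cast h.symm

theorem A_triv : d.A (triv G) = 1 := by
  have h := d.M_spec 1 (triv G)
  rw [m] at h
  simp only [triv, AddChar.one_apply, map_one, mul_one, Finset.sum_const, Finset.card_univ, nsmul_eq_mul] at h
  rw [inv_mul_cancel₀ (Nat.cast_ne_zero.mpr Fintype.card_ne_zero)] at h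
  exact_mod_cast h.symm

variable [Fintype (d.T →* ℂˣ)]

/-- Two constituents of a fixed principal series. -/
theorem fixed_pair {l : d.T →* ℂˣ} (hl : l.comp d.swap = l) {χ : IrrCharacter G} (hC : d.C l χ ≠ 0) :
    ∃ χ' : IrrCharacter G, χ' ≠ χ ∧ d.C l χ' ≠ 0 ∧ d.A χ' = 1 ∧
      (∀ ξ, d.C l ξ ≠ 0 → ξ = χ ∨ ξ = χ') ∧
      (∀ ψ : AddChar F ℂ, ψ ≠ 1 → d.M ψ χ + d.M ψ χ' = 1) ∧
      (∀ g, d.I l g = (χ : G → ℂ) g + (χ' : G → ℂ) g) := by
  classical
  have hs := d.sum_C l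
  have hC1 : d.C l χ = 1 := le_antisymm (d.C_le_one l χ) (Nat.one_le_iff_ne_zero.mpr hC)
  rw [if_pos hl, ← Finset.add_sum_erase _ _ (Finset.mem_univ χ), hC1] at hs
  obtain ⟨χ', hm, h0⟩ : ∃ ξ ∈ Finset.univ.erase χ, d.C l ξ ≠ 0 := Finset.exists_ne_zero_of_sum_ne_zero (by omega)
  have hC0 : d.C l χ' = 1 := le_antisymm (d.C_le_one l χ') (Nat.one_le_iff_ne_zero.mpr h0)
  rw [← Finset.add_sum_erase _ _ hm, hC0] at hs
  have hrest : ∀ ξ, ξ ≠ χ → ξ ≠ χ' → d.C l ξ = 0 := fun ξ e1 e2 =>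
    (Finset.sum_eq_zero_iff.mp (by omega : ∑ x ∈ (Finset.univ.erase χ).erase χ', d.C l x = 0)) ξ (by simp [e1, e2])
  refine ⟨χ', Finset.ne_of_mem_erase hm, h0, d.fixed_spec hl h0, fun ξ hξ => ?_, fun ψ hψ => ?_, fun g => ?_⟩
  · by_contra hc
    push Not at hc
    exact hξ (hrest ξ hc.1 hc.2)
  · have h := d.sum_C_M l hψ
    rw [← Finset.add_sum_erase _ _ (Finset.mem_univ χ), ← Finset.add_sum_erase _ _ hm, hC1, hC0,
      Finset.sum_eq_zero fun ξ hξ => by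
        simp only [Finset.mem_erase] at hξ
        rw [hrest ξ hξ.2.1 hξ.1, zero_mul]] at h
    omega
  · rw [d.I_expand, ← Finset.add_sum_erase _ _ (Finset.mem_univ χ), ← Finset.add_sum_erase _ _ hm, hC1, hC0,
      Finset.sum_eq_zero fun ξ hξ => by
        simp only [Finset.mem_erase] at hξ
        simp [hrest ξ hξ.2.1 hξ.1]]
    push_cast
    ring

theorem C_one_triv : d.C 1 (triv G) ≠ 0 := by
  obtain ⟨l, _, hC⟩ := d.exists_fixed_of_A_one d.A_triv
  have : l = 1 := MonoidHom.ext fun t => Units.ext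
    (linear_apply_tt (show (triv G : G → ℂ) 1 = 1 from rfl) (by omega : d.C l (triv G) ≠ 0) t).symm
  rw [this] at hC
  omega

/-- The partner of the trivial character. -/
theorem exists_steinberg : ∃ χ : IrrCharacter G, χ ≠ triv G ∧ d.A χ = 1 ∧
    (∀ ψ : AddChar F ℂ, ψ ≠ 1 → d.M ψ χ = 1) ∧ d.C 1 χ ≠ 0 ∧
    (∀ ξ, d.C 1 ξ ≠ 0 → ξ = triv G ∨ ξ = χ) ∧ (∀ g, (χ : G → ℂ) g = d.I 1 g - 1) := by
  obtain ⟨χ, hne, hC, hA, hall, hM, hI⟩ := d.fixed_pair (MonoidHom.one_comp d.swap) d.C_one_triv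
  refine ⟨χ, hne, hA, fun ψ hψ => ?_, hC, hall, fun g => ?_⟩
  · have := hM ψ hψ
    rw [d.M_triv hψ] at this
    omega
  · rw [hI g]
    exact (add_sub_cancel_left (1 : ℂ) _).symm

end Dat

end Cfsg.Agent.Lib.TwoChar
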