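import Cfsg.Agent.Lib.TwoChar.Instances

/-!
# Principal series attached to multiplicative characters
-/

set_option autoImplicit false

open scoped MatrixGroups ComplexConjugate

namespace Cfsg.Agent.Lib.TwoChar

open Cfsg Cfsg.Agent.Lib.Char Matrix

universe u v

variable {F : Type u} [Field F] {G : Type v} [Group G]

namespace Dat

variable (d : Dat F G)

/-- The torus character `(a, b) ↦ α a * β b`. -/
noncomputable def pairHom (α β : MulChar F ℂ) : d.T →* ℂˣ :=
  (α.toUnitHom.comp ((MonoidHom.fst Fˣ Fˣ).comp d.T.subtype)) *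
    (β.toUnitHom.comp ((MonoidHom.snd Fˣ Fˣ).comp d.T.subtype))

theorem pairHom_apply (α β : MulChar F ℂ) (t : d.T) :
    (d.pairHom α β t : ℂ) = α (t.1.1 : F) * β (t.1.2 : F) := by
  simp [pairHom, MulChar.coe_toUnitHom]

theorem pairHom_comp_swap (α β : MulChar F ℂ) : (d.pairHom α β).comp d.swap = d.pairHom β α :=
  MonoidHom.ext fun t => Units.ext (by
    rw [MonoidHom.comp_apply, pairHom_apply, pairHom_apply]
    exact mul_comm _ _)

theorem pch_pairHom (α β : MulChar F ℂ) :
    (fun b : d.B => α (d.mat b.1 0 0) * β (d.mat b.1 1 1)) = d.pch (d.pairHom α β) :=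
  funext fun b => by rw [pch, pairHom_apply, proj_fst, proj_snd]

theorem pch_pairHom_one (α : MulChar F ℂ) :
    (fun b : d.B => α (d.mat b.1 0 0)) = d.pch (d.pairHom α 1) :=
  funext fun b => by
    rw [pch, pairHom_apply, proj_fst, MulChar.one_apply_coe, mul_one]

variable [Fintype F] [Fintype G]

theorem I_irr_iff (l : d.T →* ℂˣ) : IsIrrCharacter G (d.I l) ↔ l.comp d.swap ≠ l := by
  classical
  constructor
  · intro h e
    have h1 := classInner_irr h h
    rw [if_pos rfl, d.classInner_I, if_pos rfl, if_pos e.symm] at h1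
    norm_num at h1
  · intro h
    refine isIrrCharacter_of_norm_one (d.isCharacter_I l) ?_
    rw [d.classInner_I, if_pos rfl, if_neg (Ne.symm h), add_zero]

theorem I_eq_iff (l l' : d.T →* ℂˣ) : d.I l = d.I l' ↔ l = l' ∨ l = l'.comp d.swap := by
  classical
  constructor
  · intro h
    by_contra hc
    push Not at hc
    have h1 := d.classInner_I l l'
    rw [← h, d.classInner_I, if_pos rfl, if_neg hc.1, if_neg hc.2] at h1
    split_ifs at h1 <;> norm_num at h1
  · rintro (rfl | rfl)
    · rfl
    · have hs : ((l'.comp d.swap).comp d.swap) = l' := MonoidHom.ext fun t => by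
        rw [MonoidHom.comp_apply, MonoidHom.comp_apply, d.swap_swap]
      refine sub_eq_zero.mp (eq_zero_of_classInner_self _ ?_)
      have e1 := d.classInner_I (l'.comp d.swap) (l'.comp d.swap)
      have e2 := d.classInner_I (l'.comp d.swap) l'
      have e3 := d.classInner_I l' (l'.comp d.swap)
      have e4 := d.classInner_I l' l'
      rw [hs] at e1 e3
      simp only [classInner, Pi.sub_apply, map_sub, mul_sub, sub_mul, Finset.sum_sub_distrib] at *
      rw [e1, e2, e3, e4]
      by_cases e : l' = l'.comp d.swap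
      · simp [← e]
      · simp [e, Ne.symm e]

end Dat

section Fields

variable (F)

theorem gl_pairHom_eq_iff (α β α' β' : MulChar F ℂ) :
    (glDat F).pairHom α β = (glDat F).pairHom α' β' ↔ α = α' ∧ β = β' := by
  refine ⟨fun h => ⟨MulChar.ext fun a => ?_, MulChar.ext fun a => ?_⟩, fun h => by rw [h.1, h.2]⟩
  · have := congrArg Units.val (DFunLike.congr_fun h ⟨(a, 1), glDat_mem_T F _⟩)
    simpa [Dat.pairHom_apply] using this
  · have := congrArg Units.val (DFunLike.congr_fun h ⟨(1, a), glDat_mem_T F _⟩)
    simpa [Dat.pairHom_apply] using this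

theorem sl_pairHom_eq_iff (α β : MulChar F ℂ) :
    (slDat F).pairHom α 1 = (slDat F).pairHom β 1 ↔ α = β := by
  refine ⟨fun h => MulChar.ext fun a => ?_, fun h => by rw [h]⟩
  have := congrArg Units.val (DFunLike.congr_fun h ((slT F).symm a))
  rw [Dat.pairHom_apply, Dat.pairHom_apply, MulChar.one_apply_coe, mul_one, mul_one] at this
  exact this

theorem sl_pairHom_comp_swap (α : MulChar F ℂ) :
    ((slDat F).pairHom α 1).comp (slDat F).swap = (slDat F).pairHom α⁻¹ 1 := by
  refine MonoidHom.ext fun t => Units.ext ?_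
  rw [MonoidHom.comp_apply, Dat.pairHom_apply, Dat.pairHom_apply, MulChar.one_apply_coe, MulChar.one_apply_coe,
    mul_one, mul_one, slDat_swap, MulChar.inv_apply]
  simp [Units.val_inv_eq_inv_val]

end Fields

end Cfsg.Agent.Lib.TwoChar
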