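import Cfsg.Agent.Lib.TwoChar.Instances
import Mathlib.NumberTheory.GaussSum
import Mathlib.NumberTheory.LegendreSymbol.QuadraticChar.Basic

/-!
# Root group coefficients of the characters of `SL(2, q)`, `q` odd
-/

set_option autoImplicit false

open scoped MatrixGroups ComplexConjugate

namespace Cfsg.Agent.Lib.TwoChar

open Cfsg Cfsg.Agent.Lib.Char Matrix

universe u

variable (F : Type u) [Field F] [Fintype F] [DecidableEq F]

/-- The complex quadratic character. -/
noncomputable def qc : MulChar F ℂ := (quadraticChar F).ringHomComp (Int.castRingHom ℂ)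

variable {F}

theorem ringChar_ne_two (hodd : Odd (Fintype.card F)) : ringChar F ≠ 2 := fun h => by
  rw [FiniteField.even_card_iff_char_two] at h
  rw [Nat.odd_iff] at hodd
  omega

theorem qc_isQuadratic : (qc F).IsQuadratic := (quadraticChar_isQuadratic F).comp _

theorem qc_ne_one (hodd : Odd (Fintype.card F)) : qc F ≠ 1 :=
  (MulChar.ringHomComp_ne_one_iff Int.cast_injective).mpr (quadraticChar_ne_one (ringChar_ne_two hodd))

theorem qc_of_isSquare {c : F} (hc : c ≠ 0) (h : IsSquare c) : qc F c = 1 := by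
  rw [qc, MulChar.ringHomComp_apply, (quadraticChar_one_iff_isSquare hc).2 h, map_one]

theorem qc_of_not_isSquare {c : F} (h : ¬ IsSquare c) : qc F c = -1 := by
  rw [qc, MulChar.ringHomComp_apply, quadraticChar_neg_one_iff_not_isSquare.2 h, map_neg, map_one]

theorem qc_sq {c : F} (hc : c ≠ 0) : qc F c ^ 2 = 1 := by
  rw [qc, MulChar.ringHomComp_apply, ← map_pow, quadraticChar_sq_one hc, map_one]

theorem isSquare_div_of_not {c η : F} (hc : c ≠ 0) (hη0 : η ≠ 0) (h : ¬ IsSquare c) (hη : ¬ IsSquare η) :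
    IsSquare (c / η) := by
  by_contra hn
  have e : qc F c = qc F (c / η) * qc F η := by rw [← map_mul, div_mul_cancel₀ _ hη0]
  rw [qc_of_not_isSquare h, qc_of_not_isSquare hη, qc_of_not_isSquare hn] at e
  norm_num at e

theorem sum_qc (hodd : Odd (Fintype.card F)) : ∑ c : F, qc F c = 0 :=
  MulChar.sum_eq_zero_of_ne_one (qc_ne_one hodd)

theorem sum_qc_addChar (ψ : AddChar F ℂ) {x : F} (hx : x ≠ 0) :
    ∑ c : F, qc F c * ψ (c * x) = qc F x * gaussSum (qc F) ψ := by
  have h := gaussSum_mulShift_eq (qc F) ψ (Units.mk0 x hx)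
  rw [qc_isQuadratic.inv, Units.val_mk0] at h
  rw [← h, gaussSum]
  exact Finset.sum_congr rfl fun c _ => by rw [AddChar.mulShift_apply, mul_comm x]

theorem gauss_sq (hodd : Odd (Fintype.card F)) {ψ : AddChar F ℂ} (hψ : ψ ≠ 1) :
    gaussSum (qc F) ψ ^ 2 = (-1 : ℂ) ^ ((Fintype.card F - 1) / 2) * (Fintype.card F : ℂ) := by
  rw [gaussSum_sq (qc_ne_one hodd) qc_isQuadratic (AddChar.IsPrimitive.of_ne_one hψ)]
  congr 1
  have hq : Fintype.card F % 2 = 1 := Nat.odd_iff.mp hodd
  rw [qc, MulChar.ringHomComp_apply, quadraticChar_neg_one (ringChar_ne_two hodd), ZMod.χ₄_eq_neg_one_pow hq,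
    map_pow, map_neg, map_one, show (Fintype.card F - 1) / 2 = Fintype.card F / 2 by omega]

/-- The coefficients of a function on the nonzero scalars depending only on the square class. -/
theorem eq_of_square_classes (f : F → ℂ) (hf : ∀ a c : F, a ≠ 0 → f (c * (a * a)) = f c) {η : F}
    (hη : ¬ IsSquare η) {c : F} (hc : c ≠ 0) :
    f c = (f 1 + f η) / 2 + qc F c * ((f 1 - f η) / 2) := by
  have hη0 : η ≠ 0 := fun h => hη (h ▸ IsSquare.zero)
  by_cases h : IsSquare c
  · obtain ⟨a, rfl⟩ := h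
    rw [qc_of_isSquare hc ⟨a, rfl⟩]
    have := hf a 1 (left_ne_zero_of_mul hc)
    rw [one_mul] at this
    rw [this]
    ring
  · obtain ⟨a, ha⟩ := isSquare_div_of_not hc hη0 h hη
    rw [div_eq_iff hη0, mul_comm] at ha
    rw [qc_of_not_isSquare h, ha, hf a η (fun e => hc (by rw [ha, e, mul_zero, mul_zero]))]
    ring

section Coef

variable [Fintype SL(2, F)] (hodd : Odd (Fintype.card F)) {η : F} (hη : ¬ IsSquare η)
  {ψ : AddChar F ℂ} (hψ : ψ ≠ 1)

local notation "d" => slDat F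

omit [DecidableEq F] in
theorem M_mulShift_sq (ψ : AddChar F ℂ) (χ : IrrCharacter SL(2, F)) {a : F} (ha : a ≠ 0) (c : F) :
    (d).M (ψ.mulShift (c * (a * a))) χ = (d).M (ψ.mulShift c) χ := by
  have h := (d).m_mulShift_torus ψ (isClassFunction_of_isIrr χ.2) ((slT F).symm (Units.mk0 a ha)) c
  have e : ((((slT F).symm (Units.mk0 a ha)).1.1 : Fˣ) : F) / ((((slT F).symm (Units.mk0 a ha)).1.2 : Fˣ) : F) = a * a := by
    simp [slT]
  rw [e, Dat.M_spec, Dat.M_spec] at h
  exact_mod_cast h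

include hη in
theorem M_eq (ψ : AddChar F ℂ) (χ : IrrCharacter SL(2, F)) {c : F} (hc : c ≠ 0) :
    ((d).M (ψ.mulShift c) χ : ℂ) = (((d).M ψ χ : ℂ) + (d).M (ψ.mulShift η) χ) / 2 +
      qc F c * ((((d).M ψ χ : ℂ) - (d).M (ψ.mulShift η) χ) / 2) := by
  have h := eq_of_square_classes (fun c => ((d).M (ψ.mulShift c) χ : ℂ))
    (fun a c ha => by rw [M_mulShift_sq ψ χ ha c]) hη hc
  simpa [AddChar.mulShift_one] using h

include hodd hη hψ in
theorem apply_one_odd (χ : IrrCharacter SL(2, F)) :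
    (χ : SL(2, F) → ℂ) 1 =
      (((d).A χ + (Fintype.card F - 1) / 2 * ((d).M ψ χ + (d).M (ψ.mulShift η) χ) : ℕ) : ℂ) := by
  have hs : ∑ c ∈ Finset.univ.erase (0 : F), qc F c = 0 := by
    have := sum_qc (F := F) hodd
    rwa [← Finset.add_sum_erase _ _ (Finset.mem_univ (0 : F)), MulChar.map_zero, zero_add] at this
  obtain ⟨k, hk⟩ := hodd
  rw [(d).degree_eq hψ χ, Finset.sum_congr rfl fun c hc => M_eq hη ψ χ (Finset.ne_of_mem_erase hc),
    Finset.sum_add_distrib, Finset.sum_const, Finset.card_erase_of_mem (Finset.mem_univ _), Finset.card_univ,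
    ← Finset.sum_mul, hs, zero_mul, add_zero, nsmul_eq_mul, hk, show 2 * k + 1 - 1 = 2 * k by omega,
    show 2 * k / 2 = k by omega]
  push_cast
  ring

include hη hψ in
theorem apply_uu_odd (χ : IrrCharacter SL(2, F)) {x : F} (hx : x ≠ 0) :
    (χ : SL(2, F) → ℂ) ((d).uu x) = ((d).A χ : ℂ) - (((d).M ψ χ : ℂ) + (d).M (ψ.mulShift η) χ) / 2 +
      qc F x * gaussSum (qc F) ψ * ((((d).M ψ χ : ℂ) - (d).M (ψ.mulShift η) χ) / 2) := by
  rw [(d).fourier_inv hψ (χ : SL(2, F) → ℂ), ← Finset.add_sum_erase _ _ (Finset.mem_univ (0 : F)),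
    Finset.sum_congr rfl fun c hc => by
      rw [Dat.M_spec, M_eq hη ψ χ (Finset.ne_of_mem_erase hc), add_mul,
        mul_right_comm (qc F c)], Finset.sum_add_distrib, ← Finset.mul_sum, ← Finset.sum_mul]
  have h0 := Dat.sum_addChar hψ x
  rw [if_neg hx, ← Finset.add_sum_erase _ _ (Finset.mem_univ (0 : F)), zero_mul, AddChar.map_zero_eq_one] at h0
  have h1 := sum_qc_addChar ψ hx
  rw [← Finset.add_sum_erase _ _ (Finset.mem_univ (0 : F)), MulChar.map_zero, zero_mul, zero_add] at h1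
  rw [h1, show ∑ c ∈ Finset.univ.erase (0 : F), ψ (c * x) = -1 by linear_combination h0, AddChar.mulShift_zero,
    Dat.M_spec, zero_mul, AddChar.map_zero_eq_one, Dat.A]
  ring

omit [Fintype F] [DecidableEq F] [Fintype SL(2, F)] in
theorem uu_eq_unipSL (x : F) : (d).uu x = Two.unipSL ⟨1, one_mul 1⟩ x :=
  (d).mat_injective ((d).mat_uu x |>.trans (by
    show _ = (Two.unipSL ⟨1, one_mul 1⟩ x : Matrix (Fin 2) (Fin 2) F)
    rw [Two.coe_unipSL, one_mul]))

include hodd in
theorem column_uu (x y : F) :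
    ∑ χ : IrrCharacter SL(2, F), (χ : SL(2, F) → ℂ) ((d).uu x) * conj ((χ : SL(2, F) → ℂ) ((d).uu y)) =
      (if x = 0 ∧ y = 0 then (Nat.card SL(2, F) : ℂ) else 0) +
        (Fintype.card F : ℂ) * ((if x = 0 ∨ y = 0 then 0 else 1) + qc F x * qc F y) := by
  classical
  rw [CharTools.sum_irr_mul_conj']
  by_cases hy : y = 0
  · subst hy
    rw [(d).uu_zero]
    by_cases hx : x = 0
    · subst hx
      rw [(d).uu_zero, if_pos (IsConj.refl _), if_pos ⟨rfl, rfl⟩, if_pos (Or.inl rfl), MulChar.map_zero]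
      have : Subgroup.centralizer ({1} : Set SL(2, F)) = ⊤ :=
        eq_top_iff.mpr fun g _ => Subgroup.mem_centralizer_singleton_iff.mpr (by rw [mul_one, one_mul])
      rw [this, Subgroup.card_top]
      ring
    · have hn : ¬ IsConj ((d).uu x) 1 := fun h => hx (by
        have e := congrArg (d).mat (isConj_one_left.mp h)
        rw [(d).mat_uu, (d).mat_one] at e
        simpa using congrFun (congrFun e 0) 1)
      rw [if_neg hn, if_neg (fun h => hx h.1), if_pos (Or.inr rfl), MulChar.map_zero]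
      ring
  · by_cases hx : x = 0
    · subst hx
      rw [(d).uu_zero]
      have hn : ¬ IsConj (1 : SL(2, F)) ((d).uu y) := fun h => hy (by
        have e := congrArg (d).mat (isConj_one_right.mp h)
        rw [(d).mat_uu, (d).mat_one] at e
        simpa using congrFun (congrFun e 0) 1)
      rw [if_neg hn, if_neg (fun h => hy h.2), if_pos (Or.inl rfl), MulChar.map_zero]
      ring
    · rw [uu_eq_unipSL, uu_eq_unipSL, if_neg (show ¬(x = 0 ∧ y = 0) from fun h => hx h.1),
        if_neg (show ¬(x = 0 ∨ y = 0) from fun h => h.elim hx hy), ← map_mul]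
      by_cases hs : IsSquare (x * y)
      · rw [if_pos ((Two.isConj_unipSL_iff _ x y hx hy).2 hs), Two.card_centralizer_unipSL _ _ hy,
          Two.card_sign hodd, Nat.card_eq_fintype_card, qc_of_isSquare (mul_ne_zero hx hy) hs]
        push_cast; ring
      · rw [if_neg (fun h => hs ((Two.isConj_unipSL_iff _ x y hx hy).1 h)), qc_of_not_isSquare hs]
        ring

include hodd hψ in
theorem sum_M_sq : ∑ χ : IrrCharacter SL(2, F), (d).M ψ χ ^ 2 = Fintype.card F + 1 := by
  classical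
  have hq : (Fintype.card F : ℂ) ≠ 0 := Nat.cast_ne_zero.mpr Fintype.card_ne_zero
  have key : ∀ χ : IrrCharacter SL(2, F), ((d).M ψ χ : ℂ) ^ 2 = (Fintype.card F : ℂ)⁻¹ ^ 2 *
      ∑ x : F, ∑ y : F, ψ (-x) * ψ y *
        ((χ : SL(2, F) → ℂ) ((d).uu x) * conj ((χ : SL(2, F) → ℂ) ((d).uu y))) := fun χ => by
    rw [sq]
    nth_rewrite 2 [← Complex.conj_natCast]
    rw [← Dat.M_spec, Dat.m, map_mul, map_inv₀, Complex.conj_natCast, map_sum, mul_mul_mul_comm,
      Finset.sum_mul_sum, ← sq]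
    congr 1
    refine Finset.sum_congr rfl fun x _ => Finset.sum_congr rfl fun y _ => ?_
    rw [map_mul, Complex.conj_conj, Dat.conj_addChar]
    ring
  have h : ((∑ χ : IrrCharacter SL(2, F), (d).M ψ χ ^ 2 : ℕ) : ℂ) = (Fintype.card F : ℂ) + 1 := by
    push_cast
    rw [Finset.sum_congr rfl fun χ _ => key χ, ← Finset.mul_sum, Finset.sum_comm,
      Finset.sum_congr rfl fun x _ => Finset.sum_comm]
    simp only [← Finset.mul_sum, column_uu hodd]
    have hsplit : ∀ x y : F, ψ (-x) * ψ y * ((if x = 0 ∧ y = 0 then (Nat.card SL(2, F) : ℂ) else 0) +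
        (Fintype.card F : ℂ) * ((if x = 0 ∨ y = 0 then 0 else 1) + qc F x * qc F y)) =
        (if x = 0 then (1 : ℂ) else 0) * (if y = 0 then (Nat.card SL(2, F) : ℂ) else 0) +
        (Fintype.card F : ℂ) * ((ψ (-x) - if x = 0 then 1 else 0) * (ψ y - if y = 0 then 1 else 0)) +
        (Fintype.card F : ℂ) * ((qc F x * ψ (-x)) * (qc F y * ψ y)) := fun x y => by
      by_cases hx : x = 0 <;> by_cases hy : y = 0 <;> simp [hx, hy] <;> ring
    simp only [hsplit, Finset.sum_add_distrib, ← Finset.mul_sum, ← Finset.sum_mul, Finset.sum_sub_distrib,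
      Finset.sum_ite_eq', if_pos (Finset.mem_univ _)]
    have hψ0 : ∑ x : F, ψ x = 0 := AddChar.sum_eq_zero_of_ne_one hψ
    have hψn : ∑ x : F, ψ (-x) = 0 := (Fintype.sum_equiv (Equiv.neg F) (fun x => ψ (-x)) (fun x => ψ x) fun x => rfl).trans hψ0
    have hgn : ∑ x : F, qc F x * ψ (-x) = qc F (-1) * gaussSum (qc F) ψ := by
      rw [← sum_qc_addChar ψ (neg_ne_zero.mpr one_ne_zero)]
      exact Finset.sum_congr rfl fun x _ => by rw [mul_neg_one]
    have hg2 : gaussSum (qc F) ψ ^ 2 = qc F (-1) * (Fintype.card F : ℂ) :=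
      gaussSum_sq (qc_ne_one hodd) qc_isQuadratic (AddChar.IsPrimitive.of_ne_one hψ)
    have h1 : qc F (-1) ^ 2 = 1 := qc_sq (neg_ne_zero.mpr one_ne_zero)
    have hg : ∑ x : F, qc F x * ψ x = gaussSum (qc F) ψ := rfl
    rw [hψ0, hψn, hgn, hg, Cfsg.Agent.Lib.Classical.card_SL_two,
      Nat.cast_mul, Nat.cast_sub (Nat.one_le_pow _ _ Fintype.card_pos), Nat.cast_pow, Nat.cast_one]
    field_simp
    linear_combination (qc F (-1)) * hg2 + (Fintype.card F : ℂ) * h1
  exact_mod_cast h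

end Coef

end Cfsg.Agent.Lib.TwoChar
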