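import Cfsg.Agent.Lib.TwoChar.Pairs
import Cfsg.Agent.Lib.TwoChar.SLOddCoef
import Cfsg.Agent.Lib.Classical.Simple

/-!
# The types of irreducible characters of `SL(2, q)`, `q` odd
-/

set_option autoImplicit false

open scoped MatrixGroups ComplexConjugate

namespace Cfsg.Agent.Lib.TwoChar

open Cfsg Cfsg.Agent.Lib.Char Matrix

universe u

variable {F : Type u} [Field F]

/-- A linear character trivial on the root group is trivial. -/
theorem hom_eq_one_of_uu (w : SL(2, F) →* ℂˣ) (h : ∀ x : F, w ((slDat F).uu x) = 1) : w = 1 := by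
  refine MonoidHom.ext fun g => ?_
  induction g using Cfsg.Agent.Lib.Classical.SL_transvection_induction with
  | h1 => exact map_one w
  | hmul A B hA hB => rw [map_mul, hA, hB, MonoidHom.one_apply, MonoidHom.one_apply, mul_one, MonoidHom.one_apply]
  | htransvec i j hij c =>
    rw [MonoidHom.one_apply]
    have hup : Matrix.SpecialLinearGroup.transvection (show (0 : Fin 2) ≠ 1 by decide) c = (slDat F).uu c := by
      refine (slDat F).mat_injective (Eq.trans ?_ ((slDat F).mat_uu c).symm)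
      change Matrix.transvection (0 : Fin 2) 1 c = _
      ext a b; fin_cases a <;> fin_cases b <;> simp [Matrix.transvection]
    fin_cases i <;> fin_cases j
    · exact absurd rfl hij
    · exact (congrArg w hup).trans (h c)
    · let W : SL(2, F) := (slDat F).mk1 !![0, 1; -1, 0] (by simp [det_fin_two])
      have hW : W * (slDat F).uu (-c) =
          Matrix.SpecialLinearGroup.transvection (show (1 : Fin 2) ≠ 0 by decide) c * W := by
        refine (slDat F).mat_injective ?_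
        rw [(slDat F).mat_mul, (slDat F).mat_mul, (slDat F).mat_mk1, (slDat F).mat_uu]
        change _ = Matrix.transvection (1 : Fin 2) 0 c * _
        ext a b; fin_cases a <;> fin_cases b <;> simp [Matrix.mul_apply, Matrix.transvection]
      have := congrArg w hW
      rw [map_mul, map_mul, h, mul_one] at this
      exact mul_eq_right.mp this.symm
    · exact absurd rfl hij

variable [Fintype F] [DecidableEq F]

/-- The quadratic character of the torus. -/
noncomputable def l0 : (slDat F).T →* ℂˣ := (slDat F).pairHom (qc F) 1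

theorem l0_apply (t : (slDat F).T) : (l0 t : ℂ) = qc F (t.1.1 : F) := by
  rw [l0, Dat.pairHom_apply, MulChar.one_apply_coe, mul_one]

theorem l0_ne_one (hodd : Odd (Fintype.card F)) : (l0 : (slDat F).T →* ℂˣ) ≠ 1 := fun h => qc_ne_one hodd (by
  refine MulChar.ext fun a => ?_
  have := congrArg Units.val (DFunLike.congr_fun h ((slT F).symm a))
  rw [l0_apply] at this
  simpa [slT, MulChar.one_apply_coe] using this)

theorem l0_fixed : (l0 : (slDat F).T →* ℂˣ).comp (slDat F).swap = l0 := by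
  rw [slDat_fixed_iff]
  refine MonoidHom.ext fun t => Units.ext ?_
  rw [MonoidHom.pow_apply, Units.val_pow_eq_pow_val, l0_apply, qc_sq (Units.ne_zero _)]
  rfl

theorem fixed_cases (hodd : Odd (Fintype.card F)) [Fintype ((slDat F).T →* ℂˣ)]
    [DecidableEq ((slDat F).T →* ℂˣ)] {l : (slDat F).T →* ℂˣ} (hl : l.comp (slDat F).swap = l) :
    l = 1 ∨ l = l0 := by
  have h : ({1, l0} : Finset ((slDat F).T →* ℂˣ)) =
      Finset.univ.filter fun l : (slDat F).T →* ℂˣ => l.comp (slDat F).swap = l := by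
    refine Finset.eq_of_subset_of_card_le (fun x hx => ?_) ?_
    · rcases Finset.mem_insert.mp hx with rfl | hx
      · exact Finset.mem_filter.mpr ⟨Finset.mem_univ _, MonoidHom.one_comp _⟩
      · rw [Finset.mem_singleton.mp hx]
        exact Finset.mem_filter.mpr ⟨Finset.mem_univ _, l0_fixed⟩
    · rw [← Dat.nfix, nfix_sl_odd F hodd, Finset.card_pair (Ne.symm (l0_ne_one hodd))]
  have hm : l ∈ ({1, l0} : Finset ((slDat F).T →* ℂˣ)) := h ▸ Finset.mem_filter.mpr ⟨Finset.mem_univ _, hl⟩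
  simpa using hm

section Types

variable [Fintype SL(2, F)] (hodd : Odd (Fintype.card F)) {η : F} (hη : ¬ IsSquare η)
  {ψ : AddChar F ℂ} (hψ : ψ ≠ 1)

local notation "d" => slDat F
local notation "k" => (Fintype.card F - 1) / 2

include hη hψ in
omit [DecidableEq F] [Fintype SL(2, F)] in
theorem mulShift_ne : ψ.mulShift η ≠ 1 :=
  Dat.addChar_mulShift_ne hψ fun h => hη (h ▸ IsSquare.zero)

include hodd hη hψ in
theorem half_spec {χ : IrrCharacter SL(2, F)} (hC : (d).C l0 χ ≠ 0) :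
    (d).A χ = 1 ∧ ((d).M ψ) χ + ((d).M (ψ.mulShift η)) χ = 1 := by
  classical
  letI : Fintype ((slDat F).T →* ℂˣ) := @Fintype.ofFinite _ (finite_dual _)
  have hA := (d).fixed_spec l0_fixed hC
  refine ⟨hA, ?_⟩
  have nolin : ∀ ξ : IrrCharacter SL(2, F), (d).C l0 ξ ≠ 0 → ((d).M ψ) ξ = 0 → ((d).M (ψ.mulShift η)) ξ = 0 → False := by
    intro ξ hξ e1 e2
    have hA' := (d).fixed_spec l0_fixed hξ
    have h1 : (ξ : SL(2, F) → ℂ) 1 = 1 := by rw [apply_one_odd hodd hη hψ, hA', e1, e2]; simp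
    obtain ⟨w, hw⟩ := exists_hom_of_degree_one (isCharacter_of_isIrr ξ.2) h1
    have hw1 : w = 1 := hom_eq_one_of_uu w fun x => Units.ext (by
      rw [← hw]
      by_cases hx : x = 0
      · rw [hx, (d).uu_zero, h1]; rfl
      · rw [apply_uu_odd hη hψ ξ hx, hA', e1, e2]; simp)
    refine l0_ne_one hodd (MonoidHom.ext fun t => Units.ext ?_)
    rw [← Dat.linear_apply_tt h1 hξ t, hw, hw1]
    rfl
  obtain ⟨χ', -, hC', -, -, hM, -⟩ := (d).fixed_pair l0_fixed hC
  have e1 := hM ψ hψ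
  have e2 := hM _ (mulShift_ne hη hψ)
  by_contra hne
  by_cases h0 : ((d).M ψ) χ + ((d).M (ψ.mulShift η)) χ = 0
  · exact nolin χ hC (by omega) (by omega)
  · exact nolin χ' hC' (by omega) (by omega)

/-- The principal series with one fixed line. -/
structure Table (ψ : AddChar F ℂ) (η : F) where
  st : IrrCharacter SL(2, F)
  hp : IrrCharacter SL(2, F)
  hm : IrrCharacter SL(2, F)
  A_st : (slDat F).A st = 1
  A_hp : (slDat F).A hp = 1
  A_hm : (slDat F).A hm = 1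
  M_st : (slDat F).M ψ st = 1 ∧ (slDat F).M (ψ.mulShift η) st = 1
  M_hp : (slDat F).M ψ hp = 1 ∧ (slDat F).M (ψ.mulShift η) hp = 0
  M_hm : (slDat F).M ψ hm = 0 ∧ (slDat F).M (ψ.mulShift η) hm = 1
  st_apply : ∀ g, (st : SL(2, F) → ℂ) g = (slDat F).I 1 g - 1
  half_apply : ∀ g, (slDat F).I l0 g = (hp : SL(2, F) → ℂ) g + (hm : SL(2, F) → ℂ) g
  A_one : ∀ χ : IrrCharacter SL(2, F), (slDat F).A χ = 1 ↔
    χ = Dat.triv SL(2, F) ∨ χ = st ∨ χ = hp ∨ χ = hm

include hodd hη hψ in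
theorem exists_table : Nonempty (Table ψ η) := by
  classical
  letI : Fintype ((slDat F).T →* ℂˣ) := @Fintype.ofFinite _ (finite_dual _)
  obtain ⟨st, -, hAst, hMst, -, hst, hIst⟩ := (d).exists_steinberg
  obtain ⟨a, hCa⟩ : ∃ a, (d).C l0 a ≠ 0 := by
    by_contra hc
    push Not at hc
    have := (d).sum_C (G := SL(2, F)) l0
    rw [if_pos l0_fixed, Finset.sum_eq_zero fun χ _ => hc χ] at this
    omega
  obtain ⟨b, -, hCb, hAb, hall, hM, hI⟩ := (d).fixed_pair l0_fixed hCa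
  have ha := half_spec hodd hη hψ hCa
  have hb := half_spec hodd hη hψ hCb
  have hM1 := hM ψ hψ
  have hM2 := hM _ (mulShift_ne hη hψ)
  have hone : ∀ χ : IrrCharacter SL(2, F), (d).A χ = 1 →
      χ = Dat.triv SL(2, F) ∨ χ = st ∨ χ = a ∨ χ = b := fun χ hA => by
    obtain ⟨l, hl, hC⟩ := (d).exists_fixed_of_A_one hA
    rcases fixed_cases hodd hl with rfl | rfl
    · rcases hst χ (by omega) with h | h
      · exact Or.inl h
      · exact Or.inr (Or.inl h)
    · exact Or.inr (Or.inr (hall χ (by omega)))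
  by_cases h : ((d).M ψ) a = 1
  · exact ⟨⟨st, a, b, hAst, ha.1, hb.1, ⟨hMst _ hψ, hMst _ (mulShift_ne hη hψ)⟩, ⟨h, by omega⟩, ⟨by omega, by omega⟩,
      hIst, hI, fun χ => ⟨hone χ, by rintro (rfl | rfl | rfl | rfl) <;>
        first | exact (d).A_triv | exact hAst | exact ha.1 | exact hb.1⟩⟩⟩
  · exact ⟨⟨st, b, a, hAst, hb.1, ha.1, ⟨hMst _ hψ, hMst _ (mulShift_ne hη hψ)⟩, ⟨by omega, by omega⟩, ⟨by omega, by omega⟩,
      hIst, fun g => by rw [hI g, add_comm], fun χ => ⟨fun e => by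
        rcases hone χ e with h' | h' | h' | h'
        · exact Or.inl h'
        · exact Or.inr (Or.inl h')
        · exact Or.inr (Or.inr (Or.inr h'))
        · exact Or.inr (Or.inr (Or.inl h')), by rintro (rfl | rfl | rfl | rfl) <;>
        first | exact (d).A_triv | exact hAst | exact ha.1 | exact hb.1⟩⟩⟩

include hψ hη in
theorem Table.sum_A_one (T : Table ψ η) (w : IrrCharacter SL(2, F) → ℕ) :
    ∑ χ : IrrCharacter SL(2, F) with (d).A χ = 1, w χ = w (Dat.triv SL(2, F)) + w T.st + w T.hp + w T.hm := by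
  classical
  have h1 : ((d).M ψ) (Dat.triv SL(2, F)) = 0 := (d).M_triv hψ
  have h2 : ((d).M (ψ.mulShift η)) (Dat.triv SL(2, F)) = 0 := (d).M_triv (mulShift_ne hη hψ)
  have e : (Finset.univ.filter fun χ : IrrCharacter SL(2, F) => (d).A χ = 1) =
      {Dat.triv SL(2, F), T.st, T.hp, T.hm} := by
    ext χ; simp [T.A_one χ]
  have n1 : Dat.triv SL(2, F) ∉ ({T.st, T.hp, T.hm} : Finset (IrrCharacter SL(2, F))) := by
    simp only [Finset.mem_insert, Finset.mem_singleton, not_or]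
    refine ⟨fun h => ?_, fun h => ?_, fun h => ?_⟩
    · rw [h, T.M_st.1] at h1; omega
    · rw [h, T.M_hp.1] at h1; omega
    · rw [h, T.M_hm.2] at h2; omega
  have n2 : T.st ∉ ({T.hp, T.hm} : Finset (IrrCharacter SL(2, F))) := by
    simp only [Finset.mem_insert, Finset.mem_singleton, not_or]
    refine ⟨fun h => ?_, fun h => ?_⟩
    · have := T.M_st.2; rw [h, T.M_hp.2] at this; omega
    · have := T.M_st.1; rw [h, T.M_hm.1] at this; omega
  have n3 : T.hp ∉ ({T.hm} : Finset (IrrCharacter SL(2, F))) := by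
    simp only [Finset.mem_singleton]
    intro h
    have := T.M_hp.1
    rw [h, T.M_hm.1] at this
    omega
  rw [e, Finset.sum_insert n1, Finset.sum_insert n2, Finset.sum_insert n3, Finset.sum_singleton]
  ring

include hodd hη hψ in
/-- The eight types. -/
theorem types_odd :
    (∀ χ : IrrCharacter SL(2, F),
      ((d).A χ = 1 ∧ ((d).M ψ) χ = 0 ∧ ((d).M (ψ.mulShift η)) χ = 0) ∨ ((d).A χ = 1 ∧ ((d).M ψ) χ = 1 ∧ ((d).M (ψ.mulShift η)) χ = 1) ∨
      ((d).A χ = 1 ∧ ((d).M ψ) χ = 1 ∧ ((d).M (ψ.mulShift η)) χ = 0) ∨ ((d).A χ = 1 ∧ ((d).M ψ) χ = 0 ∧ ((d).M (ψ.mulShift η)) χ = 1) ∨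
      ((d).A χ = 2 ∧ ((d).M ψ) χ = 1 ∧ ((d).M (ψ.mulShift η)) χ = 1) ∨ ((d).A χ = 0 ∧ ((d).M ψ) χ = 1 ∧ ((d).M (ψ.mulShift η)) χ = 1) ∨
      ((d).A χ = 0 ∧ ((d).M ψ) χ = 1 ∧ ((d).M (ψ.mulShift η)) χ = 0) ∨ ((d).A χ = 0 ∧ ((d).M ψ) χ = 0 ∧ ((d).M (ψ.mulShift η)) χ = 1)) ∧
    2 * (Finset.univ.filter fun χ : IrrCharacter SL(2, F) => (d).A χ = 2).card + 3 = Fintype.card F ∧
    (Finset.univ.filter fun χ : IrrCharacter SL(2, F) => (d).A χ = 0 ∧ ((d).M ψ) χ = 1 ∧ ((d).M (ψ.mulShift η)) χ = 1).card = k ∧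
    (Finset.univ.filter fun χ : IrrCharacter SL(2, F) => (d).A χ = 0 ∧ ((d).M ψ) χ = 1 ∧ ((d).M (ψ.mulShift η)) χ = 0).card = 1 ∧
    (Finset.univ.filter fun χ : IrrCharacter SL(2, F) => (d).A χ = 0 ∧ ((d).M ψ) χ = 0 ∧ ((d).M (ψ.mulShift η)) χ = 1).card = 1 := by
  classical
  letI : Fintype ((slDat F).T →* ℂˣ) := @Fintype.ofFinite _ (finite_dual _)
  obtain ⟨T⟩ := exists_table hodd hη hψ
  set q := Fintype.card F with hq
  obtain ⟨j, hj⟩ : ∃ j, q = 2 * j + 3 := by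
    obtain ⟨r, hr⟩ := hodd
    exact ⟨r - 1, by have := Fintype.one_lt_card (α := F); omega⟩
  have hk : k = j + 1 := by rw [← hq, hj]; omega
  have h2c : (Finset.univ.filter fun χ : IrrCharacter SL(2, F) => (d).A χ = 2).card = j := by
    have := (d).two_mul_card_A_two (G := SL(2, F))
    rw [nfix_sl_odd F hodd, card_slT, ← hq, hj] at this
    omega
  have hsum : ∀ (w : IrrCharacter SL(2, F) → ℕ) (a : ℕ), (∀ χ, (d).A χ = 2 → w χ = a) → ∑ χ, w χ =
      (∑ χ : IrrCharacter SL(2, F) with (d).A χ = 0, w χ) +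
        (w (Dat.triv SL(2, F)) + w T.st + w T.hp + w T.hm) + j * a := by
    intro w a hw
    rw [← T.sum_A_one hη hψ w, ← h2c, ← smul_eq_mul, ← Finset.sum_const,
      ← Finset.sum_congr rfl fun χ hχ => hw χ (Finset.mem_filter.mp hχ).2]
    simp only [Finset.sum_filter, ← Finset.sum_add_distrib]
    refine Finset.sum_congr rfl fun ξ _ => ?_
    rcases (d).A_cases ξ with e | e | e <;> simp [e]
  have t1 : ((d).M ψ) (Dat.triv SL(2, F)) = 0 := (d).M_triv hψ
  have t2 : ((d).M (ψ.mulShift η)) (Dat.triv SL(2, F)) = 0 := (d).M_triv (mulShift_ne hη hψ)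
  have hc := hsum (fun _ => 1) 1 fun _ _ => rfl
  have h11 := hsum (fun χ => ((d).M ψ) χ ^ 2) 1 fun χ e => by rw [(d).M_of_A_two e hψ]; rfl
  have h22 := hsum (fun χ => ((d).M (ψ.mulShift η)) χ ^ 2) 1 fun χ e => by rw [(d).M_of_A_two e (mulShift_ne hη hψ)]; rfl
  simp only [T.M_st.1, T.M_st.2, T.M_hp.1, T.M_hp.2, T.M_hm.1, T.M_hm.2, t1, t2] at h11 h22
  rw [sum_M_sq hodd hψ] at h11
  rw [sum_M_sq hodd (mulShift_ne hη hψ)] at h22
  rw [← Finset.card_eq_sum_ones, Finset.card_univ, ← Nat.card_eq_fintype_card, card_irr_eq_card_conjClasses,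
    Two.card_classes_sl_odd hodd, ← Finset.card_eq_sum_ones] at hc
  have hdeg : ∀ χ : IrrCharacter SL(2, F), charDegree (χ : SL(2, F) → ℂ) = (d).A χ + k * (((d).M ψ) χ + ((d).M (ψ.mulShift η)) χ) := fun χ =>
    charDegree_eq_of_apply_one (apply_one_odd hodd hη hψ χ)
  have hsq := hsum (fun χ => charDegree (χ : SL(2, F) → ℂ) ^ 2) ((2 + k * 2) ^ 2) fun χ e => by
    rw [hdeg, e, (d).M_of_A_two e hψ, (d).M_of_A_two e (mulShift_ne hη hψ)]
  rw [sum_charDegree_sq, Cfsg.Agent.Lib.Classical.card_SL_two] at hsq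
  simp only [hdeg, T.A_st, T.A_hp, T.A_hm, T.M_st.1, T.M_st.2, T.M_hp.1, T.M_hp.2, T.M_hm.1,
    T.M_hm.2, t1, t2, (d).A_triv] at hsq
  have h0 : ∑ χ : IrrCharacter SL(2, F) with (d).A χ = 0, ((d).A χ + k * (((d).M ψ) χ + ((d).M (ψ.mulShift η)) χ)) ^ 2 =
      k ^ 2 * ∑ χ : IrrCharacter SL(2, F) with (d).A χ = 0, (((d).M ψ) χ + ((d).M (ψ.mulShift η)) χ) ^ 2 := by
    rw [Finset.mul_sum]
    exact Finset.sum_congr rfl fun χ hχ => by rw [(Finset.mem_filter.mp hχ).2, zero_add, mul_pow]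
  rw [h0, ← hq, hk, hj, show (2 * j + 3) ^ 2 - 1 = 4 * j ^ 2 + 12 * j + 8 by
    rw [show (2 * j + 3) ^ 2 = (4 * j ^ 2 + 12 * j + 8) + 1 by ring]; exact Nat.add_sub_cancel _ _] at hsq
  rw [← hq, hj] at hc h11 h22
  norm_num at h11 h22
  have hS : ∑ χ : IrrCharacter SL(2, F) with (d).A χ = 0, (((d).M ψ) χ + ((d).M (ψ.mulShift η)) χ) ^ 2 = 4 * j + 6 := by
    refine Nat.eq_of_mul_eq_mul_left (show 0 < (j + 1) ^ 2 by positivity) ?_
    linarith [hsq]
  have hN : (Finset.univ.filter fun χ : IrrCharacter SL(2, F) => (d).A χ = 0).card = j + 3 := by omega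
  have h12 : ∑ χ : IrrCharacter SL(2, F) with (d).A χ = 0, ((d).M ψ) χ * ((d).M (ψ.mulShift η)) χ = j + 1 := by
    have e : ∑ χ : IrrCharacter SL(2, F) with (d).A χ = 0, (((d).M ψ) χ + ((d).M (ψ.mulShift η)) χ) ^ 2 =
        (∑ χ : IrrCharacter SL(2, F) with (d).A χ = 0, ((d).M ψ) χ ^ 2) +
          (∑ χ : IrrCharacter SL(2, F) with (d).A χ = 0, ((d).M (ψ.mulShift η)) χ ^ 2) +
          2 * ∑ χ : IrrCharacter SL(2, F) with (d).A χ = 0, ((d).M ψ) χ * ((d).M (ψ.mulShift η)) χ := by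
      rw [Finset.mul_sum, ← Finset.sum_add_distrib, ← Finset.sum_add_distrib]
      exact Finset.sum_congr rfl fun χ _ => by ring
    omega
  have hpos : ∀ χ : IrrCharacter SL(2, F), (d).A χ = 0 → 1 ≤ ((d).M ψ) χ + ((d).M (ψ.mulShift η)) χ := fun χ e => by
    by_contra hcc
    have h0 := charDegree_pos χ.2
    rw [hdeg, e, show ((d).M ψ) χ + ((d).M (ψ.mulShift η)) χ = 0 by omega] at h0
    simp at h0
  have hge : ∀ χ ∈ Finset.univ.filter (fun χ : IrrCharacter SL(2, F) => (d).A χ = 0),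
      1 + ((d).M ψ) χ * ((d).M (ψ.mulShift η)) χ ≤ ((d).M ψ) χ ^ 2 + ((d).M (ψ.mulShift η)) χ ^ 2 := fun χ hχ => by
    have := hpos χ (Finset.mem_filter.mp hχ).2
    rcases Nat.eq_zero_or_pos (((d).M ψ) χ) with e | e <;> rcases Nat.eq_zero_or_pos (((d).M (ψ.mulShift η)) χ) with e' | e' <;> nlinarith
  have heq := (Finset.sum_eq_sum_iff_of_le hge).mp (by
    rw [Finset.sum_add_distrib, Finset.sum_add_distrib, ← Finset.card_eq_sum_ones]
    omega)
  have hcusp : ∀ χ : IrrCharacter SL(2, F), (d).A χ = 0 →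
      (((d).M ψ) χ = 1 ∧ ((d).M (ψ.mulShift η)) χ = 1) ∨ (((d).M ψ) χ = 1 ∧ ((d).M (ψ.mulShift η)) χ = 0) ∨ (((d).M ψ) χ = 0 ∧ ((d).M (ψ.mulShift η)) χ = 1) := fun χ e => by
    have h := heq χ (Finset.mem_filter.mpr ⟨Finset.mem_univ _, e⟩)
    have hp := hpos χ e
    have hb1 : ((d).M ψ) χ ≤ 1 := by
      by_contra hcc
      rcases Nat.eq_zero_or_pos (((d).M (ψ.mulShift η)) χ) with e' | e' <;> rcases Nat.le_total (((d).M ψ) χ) (((d).M (ψ.mulShift η)) χ) with e'' | e'' <;> nlinarith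
    have hb2 : ((d).M (ψ.mulShift η)) χ ≤ 1 := by
      by_contra hcc
      interval_cases hm : ((d).M ψ) χ <;> nlinarith
    omega
  refine ⟨fun χ => ?_, by omega, ?_, ?_, ?_⟩
  · rcases (d).A_cases χ with e | e | e
    · rcases hcusp χ e with h | h | h <;> omega
    · rcases (T.A_one χ).mp e with rfl | rfl | rfl | rfl
      · omega
      · have := T.M_st; omega
      · have := T.M_hp; omega
      · have := T.M_hm; omega
    · have := (d).M_of_A_two e hψ
      have := (d).M_of_A_two e (mulShift_ne hη hψ)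
      omega
  · rw [hk, ← h12, Finset.sum_filter, Finset.card_filter]
    refine Finset.sum_congr rfl fun χ _ => ?_
    by_cases e : (d).A χ = 0
    · rcases hcusp χ e with ⟨a, b⟩ | ⟨a, b⟩ | ⟨a, b⟩ <;> simp [e, a, b]
    · simp [e]
  · have : (Finset.univ.filter fun χ : IrrCharacter SL(2, F) => (d).A χ = 0 ∧ ((d).M ψ) χ = 1 ∧ ((d).M (ψ.mulShift η)) χ = 0).card +
        (∑ χ : IrrCharacter SL(2, F) with (d).A χ = 0, ((d).M ψ) χ * ((d).M (ψ.mulShift η)) χ) =
        ∑ χ : IrrCharacter SL(2, F) with (d).A χ = 0, ((d).M ψ) χ ^ 2 := by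
      rw [Finset.sum_filter, Finset.sum_filter, Finset.card_filter, ← Finset.sum_add_distrib]
      refine Finset.sum_congr rfl fun χ _ => ?_
      by_cases e : (d).A χ = 0
      · rcases hcusp χ e with ⟨a, b⟩ | ⟨a, b⟩ | ⟨a, b⟩ <;> simp [e, a, b]
      · simp [e]
    omega
  · have : (Finset.univ.filter fun χ : IrrCharacter SL(2, F) => (d).A χ = 0 ∧ ((d).M ψ) χ = 0 ∧ ((d).M (ψ.mulShift η)) χ = 1).card +
        (∑ χ : IrrCharacter SL(2, F) with (d).A χ = 0, ((d).M ψ) χ * ((d).M (ψ.mulShift η)) χ) =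
        ∑ χ : IrrCharacter SL(2, F) with (d).A χ = 0, ((d).M (ψ.mulShift η)) χ ^ 2 := by
      rw [Finset.sum_filter, Finset.sum_filter, Finset.card_filter, ← Finset.sum_add_distrib]
      refine Finset.sum_congr rfl fun χ _ => ?_
      by_cases e : (d).A χ = 0
      · rcases hcusp χ e with ⟨a, b⟩ | ⟨a, b⟩ | ⟨a, b⟩ <;> simp [e, a, b]
      · simp [e]
    omega

end Types

end Cfsg.Agent.Lib.TwoChar
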