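import Cfsg.Agent.Lib.TwoChar.SLOddTypes
import Cfsg.Agent.Lib.Two.Order

/-!
# Values of the characters of `SL(2, q)`, `q` odd
-/

set_option autoImplicit false

open scoped MatrixGroups ComplexConjugate

namespace Cfsg.Agent.Lib.TwoChar

open Cfsg Cfsg.Agent.Lib.Char Matrix

universe u

variable {F : Type u} [Field F]

/-- Conjugation by `diag (c, 1)`. -/
def sigma (c : Fˣ) : SL(2, F) ≃* SL(2, F) where
  toFun X := ⟨!![X.1 0 0, (c : F) * X.1 0 1; (c : F)⁻¹ * X.1 1 0, X.1 1 1], by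
    have h := X.2
    rw [det_fin_two] at h
    rw [det_fin_two]
    simp only [Matrix.cons_val', Matrix.cons_val_zero, Matrix.cons_val_one, Matrix.empty_val', Matrix.cons_val_fin_one,
      Matrix.of_apply]
    field_simp
    linear_combination h⟩
  invFun X := ⟨!![X.1 0 0, (c : F)⁻¹ * X.1 0 1; (c : F) * X.1 1 0, X.1 1 1], by
    have h := X.2
    rw [det_fin_two] at h
    rw [det_fin_two]
    simp only [Matrix.cons_val', Matrix.cons_val_zero, Matrix.cons_val_one, Matrix.empty_val', Matrix.cons_val_fin_one,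
      Matrix.of_apply]
    field_simp
    linear_combination h⟩
  left_inv X := Subtype.ext (by ext i j; fin_cases i <;> fin_cases j <;> simp)
  right_inv X := Subtype.ext (by ext i j; fin_cases i <;> fin_cases j <;> simp)
  map_mul' X Y := Subtype.ext (by
    change (!![(X.1 * Y.1) 0 0, (c : F) * (X.1 * Y.1) 0 1; (c : F)⁻¹ * (X.1 * Y.1) 1 0, (X.1 * Y.1) 1 1] :
        Matrix (Fin 2) (Fin 2) F) =
      !![X.1 0 0, (c : F) * X.1 0 1; (c : F)⁻¹ * X.1 1 0, X.1 1 1] *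
        !![Y.1 0 0, (c : F) * Y.1 0 1; (c : F)⁻¹ * Y.1 1 0, Y.1 1 1]
    ext i j
    fin_cases i <;> fin_cases j <;> simp [Matrix.mul_apply] <;> field_simp)

theorem sigma_apply (c : Fˣ) (X : SL(2, F)) :
    (sigma c X : Matrix (Fin 2) (Fin 2) F) = !![X.1 0 0, (c : F) * X.1 0 1; (c : F)⁻¹ * X.1 1 0, X.1 1 1] := rfl

theorem sigma_uu (c : Fˣ) (x : F) : sigma c ((slDat F).uu x) = (slDat F).uu ((c : F) * x) := by
  refine (slDat F).mat_injective (Eq.trans ?_ ((slDat F).mat_uu _).symm)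
  change (sigma c ((slDat F).uu x) : Matrix (Fin 2) (Fin 2) F) = _
  have h : ((slDat F).uu x : Matrix (Fin 2) (Fin 2) F) = !![1, x; 0, 1] := (slDat F).mat_uu x
  rw [sigma_apply, h]
  simp

theorem sigma_tt (c : Fˣ) (t : (slDat F).T) : sigma c ((slDat F).tt t) = (slDat F).tt t := by
  refine (slDat F).mat_injective ?_
  change (sigma c ((slDat F).tt t) : Matrix (Fin 2) (Fin 2) F) = ((slDat F).tt t : Matrix (Fin 2) (Fin 2) F)
  have h : ((slDat F).tt t : Matrix (Fin 2) (Fin 2) F) = !![(t.1.1 : F), 0; 0, (t.1.2 : F)] := (slDat F).mat_tt t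
  rw [sigma_apply, h]
  simp

theorem toGL_sigma (c : Fˣ) (X : SL(2, F)) :
    Matrix.SpecialLinearGroup.toGL (sigma c X) =
      GeneralLinearGroup.mkOfDetNeZero !![(c : F), 0; 0, 1] (by simp [det_fin_two]) *
        Matrix.SpecialLinearGroup.toGL X *
        (GeneralLinearGroup.mkOfDetNeZero !![(c : F), 0; 0, 1] (by simp [det_fin_two]))⁻¹ := by
  rw [eq_mul_inv_iff_mul_eq]
  refine Units.ext ?_
  change (sigma c X : Matrix (Fin 2) (Fin 2) F) * !![(c : F), 0; 0, 1] = !![(c : F), 0; 0, 1] * (X : Matrix (Fin 2) (Fin 2) F)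
  rw [sigma_apply]
  ext i j
  fin_cases i <;> fin_cases j <;> simp [Matrix.mul_apply, mul_comm]

variable [Fintype F]

theorem trace_sq_ne_four_of_no_eigen (hodd : Odd (Fintype.card F)) (g : SL(2, F))
    (hv : ∀ (c : F) (v : Fin 2 → F), v ≠ 0 → (g : Matrix (Fin 2) (Fin 2) F).mulVec v ≠ c • v) :
    (g : Matrix (Fin 2) (Fin 2) F).trace ^ 2 ≠ 4 := by
  intro h
  have h2 : (2 : F) ≠ 0 := Two.two_ne_zero_of_odd hodd
  refine Two.no_root_of_elliptic (Matrix.SpecialLinearGroup.toGL g) hv ((g : Matrix (Fin 2) (Fin 2) F).trace / 2) ?_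
  change _ - _ * (g : Matrix (Fin 2) (Fin 2) F).trace + (g : Matrix (Fin 2) (Fin 2) F).det = 0
  rw [g.2]
  field_simp
  linear_combination -h

theorem isConj_sigma (hodd : Odd (Fintype.card F)) (c : Fˣ) (g : SL(2, F))
    (hv : ∀ (c : F) (v : Fin 2 → F), v ≠ 0 → (g : Matrix (Fin 2) (Fin 2) F).mulVec v ≠ c • v) :
    IsConj (sigma c g) g := by
  have hg := Two.not_scalar_of_elliptic (Matrix.SpecialLinearGroup.toGL g) hv
  have htr : (sigma c g : Matrix (Fin 2) (Fin 2) F).trace = (g : Matrix (Fin 2) (Fin 2) F).trace := by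
    rw [sigma_apply, trace_fin_two, trace_fin_two]
    simp
  refine (Two.sl_isConj_of_trace g (sigma c g) hg (fun h => hg ?_) htr.symm fun δ _ =>
    Two.values_of_odd hodd _ (trace_sq_ne_four_of_no_eigen hodd g hv) δ).symm
  obtain ⟨a, ha⟩ := (Two.isScalar2_iff _).1 h
  refine (Two.isScalar2_iff _).2 ⟨a, ?_⟩
  rw [sigma_apply] at ha
  have e := fun i j => congrFun (congrFun ha i) j
  ext i j
  have e00 := e 0 0
  have e01 := e 0 1
  have e10 := e 1 0
  have e11 := e 1 1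
  simp at e00 e01 e10 e11
  change (g : Matrix (Fin 2) (Fin 2) F) i j = _
  fin_cases i <;> fin_cases j <;> simp [e00, e01, e10, e11]

variable [DecidableEq F] [Fintype SL(2, F)] (hodd : Odd (Fintype.card F)) {η : F} (hη : ¬ IsSquare η)
  {ψ : AddChar F ℂ} (hψ : ψ ≠ 1)

local notation "d" => slDat F

/-- Twisting an irreducible character by `sigma`. -/
noncomputable def twist (c : Fˣ) (χ : IrrCharacter SL(2, F)) : IrrCharacter SL(2, F) :=
  ⟨(χ : SL(2, F) → ℂ) ∘ sigma c, isIrrCharacter_comp χ.2 (sigma c).toMonoidHom (sigma c).surjective⟩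

omit [DecidableEq F] in
theorem M_twist (ψ : AddChar F ℂ) (c : Fˣ) (χ : IrrCharacter SL(2, F)) :
    (d).M ψ (twist c χ) = (d).M (ψ.mulShift (c : F)⁻¹) χ := by
  have h : (d).m ψ (twist c χ : SL(2, F) → ℂ) = (d).m (ψ.mulShift (c : F)⁻¹) (χ : SL(2, F) → ℂ) := by
    simp only [Dat.m]
    congr 1
    refine Fintype.sum_equiv (Equiv.mulLeft₀ (c : F) c.ne_zero) _ _ fun x => ?_
    change (χ : SL(2, F) → ℂ) (sigma c ((d).uu x)) * _ = _
    rw [sigma_uu, AddChar.mulShift_apply]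
    simp
  rw [Dat.M_spec, Dat.M_spec] at h
  exact_mod_cast h

include hη in
omit [DecidableEq F] [Fintype F] [Fintype SL(2, F)] in
theorem nonsquare_ne_zero : η ≠ 0 := fun h => hη (h ▸ IsSquare.zero)

include hη hψ in
/-- The twist exchanges the halves of the split principal series. -/
theorem Table.twist_hp (T : Table ψ η) : twist (Units.mk0 η (nonsquare_ne_zero hη)) T.hp = T.hm := by
  have hη0 := nonsquare_ne_zero hη
  have hA : (d).A (twist (Units.mk0 η hη0) T.hp) = 1 := by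
    rw [Dat.A, M_twist, show ((1 : AddChar F ℂ).mulShift _) = 1 from by ext x; simp [AddChar.mulShift_apply]]
    exact T.A_hp
  have e : (d).M ψ (twist (Units.mk0 η hη0) T.hp) = 0 := by
    rw [M_twist, Units.val_mk0, show η⁻¹ = η * (η⁻¹ * η⁻¹) by field_simp,
      M_mulShift_sq ψ T.hp (inv_ne_zero hη0) η]
    exact T.M_hp.2
  have e' : (d).M (ψ.mulShift η) (twist (Units.mk0 η hη0) T.hp) = 1 := by
    rw [M_twist, Units.val_mk0, AddChar.mulShift_mulShift, mul_inv_cancel₀ hη0, AddChar.mulShift_one]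
    exact T.M_hp.1
  rcases (T.A_one _).mp hA with h | h | h | h
  · rw [h, (d).M_triv (mulShift_ne hη hψ)] at e'; omega
  · rw [h, T.M_st.1] at e; omega
  · rw [h, T.M_hp.1] at e; omega
  · exact h

include hη hψ in
theorem Table.hm_apply (T : Table ψ η) (g : SL(2, F)) :
    (T.hm : SL(2, F) → ℂ) g = (T.hp : SL(2, F) → ℂ) (sigma (Units.mk0 η (nonsquare_ne_zero hη)) g) := by
  rw [← T.twist_hp hη hψ]; rfl

include hη hψ in
/-- The halves at regular diagonal elements. -/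
theorem Table.half_tt (T : Table ψ η) {t : (d).T} (ht : t.1.1 ≠ t.1.2) :
    (T.hp : SL(2, F) → ℂ) ((d).tt t) = (l0 t : ℂ) ∧ (T.hm : SL(2, F) → ℂ) ((d).tt t) = (l0 t : ℂ) := by
  have h := T.half_apply ((d).tt t)
  rw [(d).I_tt l0 t ht, show l0 ((d).swap t) = l0 t from DFunLike.congr_fun l0_fixed t] at h
  rw [T.hm_apply hη hψ, sigma_tt] at h ⊢
  have e : (T.hp : SL(2, F) → ℂ) ((d).tt t) = (l0 t : ℂ) := by linear_combination -(1 / 2 : ℂ) * h
  exact ⟨e, e⟩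

include hodd hη hψ in
/-- The halves at elements without eigenvectors. -/
theorem Table.half_no_eigen (T : Table ψ η) {g : SL(2, F)}
    (hv : ∀ (c : F) (v : Fin 2 → F), v ≠ 0 → (g : Matrix (Fin 2) (Fin 2) F).mulVec v ≠ c • v) :
    (T.hp : SL(2, F) → ℂ) g = 0 ∧ (T.hm : SL(2, F) → ℂ) g = 0 := by
  have h := T.half_apply g
  rw [(d).I_eq_zero_of_no_eigen l0 g hv] at h
  obtain ⟨x, hx⟩ := isConj_iff.1 (isConj_sigma hodd (Units.mk0 η (nonsquare_ne_zero hη)) g hv)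
  have e : (T.hm : SL(2, F) → ℂ) g = (T.hp : SL(2, F) → ℂ) g := by
    rw [T.hm_apply hη hψ]
    conv_rhs => rw [← hx]
    exact (isClassFunction_of_isIrr T.hp.2 _ x).symm
  rw [e] at h ⊢
  have e' : (T.hp : SL(2, F) → ℂ) g = 0 := by linear_combination -(1 / 2 : ℂ) * h
  exact ⟨e', e'⟩

include hη hψ in
theorem Table.norm_tt (T : Table ψ η) {t : (d).T} (ht : t.1.1 ≠ t.1.2) {χ : IrrCharacter SL(2, F)}
    (hA : (d).A χ = 1) : (χ : SL(2, F) → ℂ) ((d).tt t) * conj ((χ : SL(2, F) → ℂ) ((d).tt t)) = 1 := by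
  rcases (T.A_one χ).mp hA with rfl | rfl | rfl | rfl
  · simp [Dat.triv]
  · rw [T.st_apply, (d).I_tt 1 t ht]
    norm_num
  · rw [(T.half_tt hη hψ ht).1]
    exact linear_conj_mul l0 t
  · rw [(T.half_tt hη hψ ht).2]
    exact linear_conj_mul l0 t

include hodd hη hψ in
/-- All degrees. -/
theorem degree_cases_odd (χ : IrrCharacter SL(2, F)) :
    ((d).A χ = 1 ∧ (d).M ψ χ = 0 ∧ (d).M (ψ.mulShift η) χ = 0 ∧ (χ : SL(2, F) → ℂ) 1 = 1) ∨
    ((d).A χ = 1 ∧ (d).M ψ χ = 1 ∧ (d).M (ψ.mulShift η) χ = 1 ∧ (χ : SL(2, F) → ℂ) 1 = (Fintype.card F : ℂ)) ∨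
    ((d).A χ = 2 ∧ (d).M ψ χ = 1 ∧ (d).M (ψ.mulShift η) χ = 1 ∧ (χ : SL(2, F) → ℂ) 1 = (Fintype.card F : ℂ) + 1) ∨
    ((d).A χ = 0 ∧ (d).M ψ χ = 1 ∧ (d).M (ψ.mulShift η) χ = 1 ∧ (χ : SL(2, F) → ℂ) 1 = (Fintype.card F : ℂ) - 1) ∨
    ((d).A χ = 1 ∧ (d).M ψ χ + (d).M (ψ.mulShift η) χ = 1 ∧
      (χ : SL(2, F) → ℂ) 1 = (((Fintype.card F + 1) / 2 : ℕ) : ℂ)) ∨
    ((d).A χ = 0 ∧ (d).M ψ χ + (d).M (ψ.mulShift η) χ = 1 ∧
      (χ : SL(2, F) → ℂ) 1 = (((Fintype.card F - 1) / 2 : ℕ) : ℂ)) := by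
  have hq1 : 2 * ((Fintype.card F - 1) / 2) + 1 = Fintype.card F := by
    obtain ⟨r, hr⟩ := hodd; omega
  have e1 : (Fintype.card F : ℂ) - 1 = ((Fintype.card F - 1 : ℕ) : ℂ) := by
    rw [Nat.cast_sub (Fintype.card_pos : 0 < Fintype.card F), Nat.cast_one]
  have e2 : (Fintype.card F : ℂ) + 1 = ((Fintype.card F + 1 : ℕ) : ℂ) := by rw [Nat.cast_add, Nat.cast_one]
  rw [apply_one_odd hodd hη hψ χ, e1, e2, Nat.cast_inj, Nat.cast_inj, Nat.cast_inj, Nat.cast_inj, Nat.cast_inj,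
    Nat.cast_eq_one]
  rcases (types_odd hodd hη hψ).1 χ with ⟨a, b, c⟩ | ⟨a, b, c⟩ | ⟨a, b, c⟩ | ⟨a, b, c⟩ | ⟨a, b, c⟩ | ⟨a, b, c⟩ |
    ⟨a, b, c⟩ | ⟨a, b, c⟩ <;> rw [a, b, c] <;> omega

include hodd hη hψ in
/-- The degree determines the type for `q ≥ 5`. -/
theorem degree_iff_odd (hq : 5 ≤ Fintype.card F) (χ : IrrCharacter SL(2, F)) :
    ((χ : SL(2, F) → ℂ) 1 = 1 ↔ (d).A χ = 1 ∧ (d).M ψ χ = 0 ∧ (d).M (ψ.mulShift η) χ = 0) ∧
    ((χ : SL(2, F) → ℂ) 1 = (Fintype.card F : ℂ) ↔ (d).A χ = 1 ∧ (d).M ψ χ = 1 ∧ (d).M (ψ.mulShift η) χ = 1) ∧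
    ((χ : SL(2, F) → ℂ) 1 = (Fintype.card F : ℂ) + 1 ↔ (d).A χ = 2) ∧
    ((χ : SL(2, F) → ℂ) 1 = (Fintype.card F : ℂ) - 1 ↔ (d).A χ = 0 ∧ (d).M ψ χ = 1 ∧ (d).M (ψ.mulShift η) χ = 1) ∧
    ((χ : SL(2, F) → ℂ) 1 = (((Fintype.card F + 1) / 2 : ℕ) : ℂ) ↔
      (d).A χ = 1 ∧ (d).M ψ χ + (d).M (ψ.mulShift η) χ = 1) ∧
    ((χ : SL(2, F) → ℂ) 1 = (((Fintype.card F - 1) / 2 : ℕ) : ℂ) ↔
      (d).A χ = 0 ∧ (d).M ψ χ + (d).M (ψ.mulShift η) χ = 1) := by
  have hq1 : 2 * ((Fintype.card F - 1) / 2) + 1 = Fintype.card F := by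
    obtain ⟨r, hr⟩ := hodd; omega
  have e1 : (Fintype.card F : ℂ) - 1 = ((Fintype.card F - 1 : ℕ) : ℂ) := by
    rw [Nat.cast_sub (Fintype.card_pos : 0 < Fintype.card F), Nat.cast_one]
  have e2 : (Fintype.card F : ℂ) + 1 = ((Fintype.card F + 1 : ℕ) : ℂ) := by rw [Nat.cast_add, Nat.cast_one]
  rw [apply_one_odd hodd hη hψ χ, e1, e2, Nat.cast_inj, Nat.cast_inj, Nat.cast_inj, Nat.cast_inj, Nat.cast_inj,
    Nat.cast_eq_one]
  rcases (types_odd hodd hη hψ).1 χ with ⟨a, b, c⟩ | ⟨a, b, c⟩ | ⟨a, b, c⟩ | ⟨a, b, c⟩ | ⟨a, b, c⟩ | ⟨a, b, c⟩ |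
    ⟨a, b, c⟩ | ⟨a, b, c⟩ <;> rw [a, b, c] <;> refine ⟨?_, ?_, ?_, ?_, ?_, ?_⟩ <;> constructor <;> intros <;> omega

include hodd hη hψ in
/-- Degree two cuspidal characters of `SL(2, 3)` vanish off the split elements. -/
theorem three_no_eigen (hq : Fintype.card F = 3) (χ : IrrCharacter SL(2, F)) {g : SL(2, F)}
    (hv : ∀ (c : F) (v : Fin 2 → F), v ≠ 0 → (g : Matrix (Fin 2) (Fin 2) F).mulVec v ≠ c • v)
    (hA : (d).A χ = 0) (h1 : (d).M ψ χ = 1) (h2 : (d).M (ψ.mulShift η) χ = 1) :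
    (χ : SL(2, F) → ℂ) g = 0 := by
  classical
  letI : Fintype ((slDat F).T →* ℂˣ) := @Fintype.ofFinite _ (finite_dual _)
  obtain ⟨T⟩ := exists_table hodd hη hψ
  obtain ⟨htyp, hA2, hc, hc1, hc2⟩ := types_odd hodd hη hψ
  rw [hq] at hA2 hc
  have hA2' : ∀ ξ : IrrCharacter SL(2, F), (d).A ξ ≠ 2 := fun ξ e => by
    have : 0 < (Finset.univ.filter fun χ : IrrCharacter SL(2, F) => (d).A χ = 2).card :=
      Finset.card_pos.mpr ⟨ξ, by simp [e]⟩
    omega
  have hg1 : g ^ 4 = 1 := by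
    have := Two.pow_card_succ_eq_one g fun ⟨a, ha⟩ => Two.no_root_of_elliptic (Matrix.SpecialLinearGroup.toGL g) hv a (by
      change a ^ 2 - a * (g : Matrix (Fin 2) (Fin 2) F).trace + (g : Matrix (Fin 2) (Fin 2) F).det = 0
      rw [g.2]
      linear_combination ha)
    rwa [hq] at this
  have hlin : ∀ ξ : IrrCharacter SL(2, F), (d).A ξ = 0 → (d).M ψ ξ + (d).M (ψ.mulShift η) ξ = 1 →
      (ξ : SL(2, F) → ℂ) g = 1 := fun ξ e e' => by
    have h1 : (ξ : SL(2, F) → ℂ) 1 = 1 := by rw [apply_one_odd hodd hη hψ, e, e', hq]; simp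
    obtain ⟨w, hw⟩ := exists_hom_of_degree_one (isCharacter_of_isIrr ξ.2) h1
    have hw3 : w ^ 3 = 1 := hom_eq_one_of_uu _ fun x => by
      have h3 : (3 : F) = 0 := by
        have h := FiniteField.cast_card_eq_zero F
        rw [hq] at h
        exact_mod_cast h
      rw [MonoidHom.pow_apply, ← map_pow, pow_three, ← (d).uu_add, ← (d).uu_add,
        show x + (x + x) = 0 by linear_combination x * h3, (d).uu_zero, map_one]
    have e4 : w g ^ 4 = 1 := by rw [← map_pow, hg1, map_one]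
    have e3 : w g ^ 3 = 1 := by rw [← MonoidHom.pow_apply, hw3, MonoidHom.one_apply]
    rw [hw, show w g = 1 by rwa [pow_succ, e3, one_mul] at e4]
    rfl
  have hne : ¬ IsConj g 1 := fun h => by
    rw [isConj_one_left.mp h] at hv
    exact hv 1 ![1, 0] (fun e => by simpa using congrFun e 0) (by simp)
  have horth := CharTools.sum_irr_mul_conj' g 1
  rw [if_neg hne] at horth
  have hterm : ∀ ξ : IrrCharacter SL(2, F), (ξ : SL(2, F) → ℂ) g * conj ((ξ : SL(2, F) → ℂ) 1) =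
      (if ξ = Dat.triv SL(2, F) then 1 else 0) + (if ξ = T.st then -3 else 0) +
      (if (d).A ξ = 0 ∧ (d).M ψ ξ = 1 ∧ (d).M (ψ.mulShift η) ξ = 0 then 1 else 0) +
      (if (d).A ξ = 0 ∧ (d).M ψ ξ = 0 ∧ (d).M (ψ.mulShift η) ξ = 1 then 1 else 0) +
      (if (d).A ξ = 0 ∧ (d).M ψ ξ = 1 ∧ (d).M (ψ.mulShift η) ξ = 1 then 2 * (χ : SL(2, F) → ℂ) g else 0) := by
    intro ξ
    have hd1 := apply_one_odd hodd hη hψ ξ
    have hT1 : (d).M ψ (Dat.triv SL(2, F)) = 0 := (d).M_triv hψ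
    have hT2 : (d).M (ψ.mulShift η) (Dat.triv SL(2, F)) = 0 := (d).M_triv (mulShift_ne hη hψ)
    have hT := (d).A_triv (G := SL(2, F))
    rcases (d).A_cases ξ with e | e | e
    · have n1 : ξ ≠ Dat.triv SL(2, F) := fun h => by rw [h, hT] at e; omega
      have n2 : ξ ≠ T.st := fun h => by rw [h, T.A_st] at e; omega
      rw [if_neg n1, if_neg n2, hd1, e, hq, Complex.conj_natCast]
      rcases htyp ξ with h | h | h | h | h | h | h | h <;> try omega
      · have hξ : ξ = χ := by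
          rw [hq, Finset.card_eq_one] at *
          obtain ⟨a, ha⟩ := hc
          have eξ : ξ ∈ ({a} : Finset (IrrCharacter SL(2, F))) := ha ▸ Finset.mem_filter.mpr ⟨Finset.mem_univ _, h⟩
          have eχ : χ ∈ ({a} : Finset (IrrCharacter SL(2, F))) := ha ▸ Finset.mem_filter.mpr ⟨Finset.mem_univ _, hA, h1, h2⟩
          exact (Finset.mem_singleton.mp eξ).trans (Finset.mem_singleton.mp eχ).symm
        subst hξ
        simp [h.2.1, h.2.2]; ring
      · simp [h.2.1, h.2.2, hlin ξ e (by omega)]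
      · simp [h.2.1, h.2.2, hlin ξ e (by omega)]
    · rw [if_neg (fun h : (d).A ξ = 0 ∧ _ => by omega), if_neg (fun h : (d).A ξ = 0 ∧ _ => by omega),
        if_neg (fun h : (d).A ξ = 0 ∧ _ => by omega), hd1, Complex.conj_natCast, e, hq]
      rcases (T.A_one ξ).mp e with rfl | rfl | rfl | rfl
      · have : Dat.triv SL(2, F) ≠ T.st := fun h => by rw [h, T.M_st.1] at hT1; omega
        rw [if_pos rfl, if_neg this, hT1, hT2]
        simp [Dat.triv]
      · have : T.st ≠ Dat.triv SL(2, F) := fun h => by rw [← h, T.M_st.1] at hT1; omega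
        rw [if_pos rfl, if_neg this, T.M_st.1, T.M_st.2, T.st_apply, (d).I_eq_zero_of_no_eigen 1 g hv]
        norm_num
      · have : T.hp ≠ Dat.triv SL(2, F) := fun h => by rw [← h, T.M_hp.1] at hT1; omega
        have n' : T.hp ≠ T.st := fun h => by have := T.M_hp.2; rw [h, T.M_st.2] at this; omega
        rw [if_neg this, if_neg n', (T.half_no_eigen hodd hη hψ hv).1]
        ring
      · have : T.hm ≠ Dat.triv SL(2, F) := fun h => by rw [← h, T.M_hm.2] at hT2; omega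
        have n' : T.hm ≠ T.st := fun h => by have := T.M_hm.1; rw [h, T.M_st.1] at this; omega
        rw [if_neg this, if_neg n', (T.half_no_eigen hodd hη hψ hv).2]
        ring
    · exact absurd e (hA2' ξ)
  rw [Finset.sum_congr rfl fun ξ _ => hterm ξ, Finset.sum_add_distrib, Finset.sum_add_distrib,
    Finset.sum_add_distrib, Finset.sum_add_distrib, Finset.sum_ite_eq', Finset.sum_ite_eq',
    if_pos (Finset.mem_univ _), if_pos (Finset.mem_univ _), ← Finset.sum_filter, ← Finset.sum_filter,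
    ← Finset.sum_filter, Finset.sum_const, Finset.sum_const, Finset.sum_const, hc, hc1, hc2] at horth
  simp only [show ((3 - 1) / 2 : ℕ) = 1 from rfl, one_smul] at horth
  linear_combination (1 / 2 : ℂ) * horth

end Cfsg.Agent.Lib.TwoChar
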