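import Cfsg.Agent.Lib.TwoChar.Dat
import Cfsg.Agent.Lib.CharTools.Basic

/-!
# The types of irreducible characters of a group between `SL(2, q)` and `GL(2, q)`
-/

set_option autoImplicit false

open scoped MatrixGroups ComplexConjugate

namespace Cfsg.Agent.Lib.TwoChar

open Cfsg Cfsg.Agent.Lib.Char Matrix

universe u v

variable {F : Type u} [Field F] [Fintype F] {G : Type v} [Group G] [Fintype G]

namespace Dat

variable (d : Dat F G)

/-- The root group as a homomorphism. -/
noncomputable def uhom : Multiplicative F →* G where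
  toFun x := d.uu x.toAdd
  map_one' := d.uu_zero
  map_mul' _ _ := d.uu_add _ _

/-- Fourier coefficient on the root group. -/
noncomputable def m (ψ : AddChar F ℂ) (χ : G → ℂ) : ℂ :=
  (Fintype.card F : ℂ)⁻¹ * ∑ x : F, χ (d.uu x) * conj (ψ x)

theorem exists_m_nat (ψ : AddChar F ℂ) {χ : G → ℂ} (h : IsCharacter G χ) : ∃ k : ℕ, d.m ψ χ = k := by
  classical
  obtain ⟨k, hk⟩ := classInner_natCast (G := Multiplicative F) (isCharacter_comp h d.uhom)
    (isCharacter_of_isIrr (isIrrCharacter_linear ψ.toMonoidHom.toHomUnits))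
  refine ⟨k, hk ▸ ?_⟩
  rw [classInner, m, Nat.card_eq_fintype_card, Fintype.card_multiplicative]
  congr 1
  exact (Fintype.sum_equiv Multiplicative.toAdd _ _ fun x => by simp [uhom]).symm

theorem sum_addChar {ψ : AddChar F ℂ} (hψ : ψ ≠ 1) (y : F) [Decidable (y = 0)] :
    ∑ c : F, ψ (c * y) = if y = 0 then (Fintype.card F : ℂ) else 0 := by
  classical
  rw [AddChar.sum_mulShift y (AddChar.IsPrimitive.of_ne_one hψ)]
  split_ifs <;> simp

theorem addChar_mulShift_ne {ψ : AddChar F ℂ} (hψ : ψ ≠ 1) {c : F} (hc : c ≠ 0) : ψ.mulShift c ≠ 1 :=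
  AddChar.IsPrimitive.of_ne_one hψ hc

theorem conj_addChar (ψ : AddChar F ℂ) (x : F) : conj (ψ x) = ψ (-x) :=
  (AddChar.map_neg_eq_conj ψ x).symm

theorem fourier_inv {ψ : AddChar F ℂ} (hψ : ψ ≠ 1) (χ : G → ℂ) (y : F) :
    χ (d.uu y) = ∑ c : F, d.m (ψ.mulShift c) χ * ψ (c * y) := by
  classical
  simp only [m, Finset.mul_sum, Finset.sum_mul]
  rw [Finset.sum_comm]
  have h : ∀ x : F, ∑ c : F, (Fintype.card F : ℂ)⁻¹ * (χ (d.uu x) * conj (ψ.mulShift c x)) * ψ (c * y) =
      if y - x = 0 then χ (d.uu x) else 0 := by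
    intro x
    have hc : ∀ c : F, (Fintype.card F : ℂ)⁻¹ * (χ (d.uu x) * conj (ψ.mulShift c x)) * ψ (c * y) =
        (Fintype.card F : ℂ)⁻¹ * χ (d.uu x) * ψ (c * (y - x)) := fun c => by
      rw [AddChar.mulShift_apply, conj_addChar, mul_sub, sub_eq_add_neg (c * y), AddChar.map_add_eq_mul]
      ring
    rw [Finset.sum_congr rfl fun c _ => hc c, ← Finset.mul_sum, sum_addChar hψ]
    split_ifs
    · rw [mul_comm _ (Fintype.card F : ℂ), ← mul_assoc, mul_inv_cancel₀ (Nat.cast_ne_zero.mpr Fintype.card_ne_zero), one_mul]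
    · rw [mul_zero]
  simp only [h, sub_eq_zero]
  simp

theorem tt_conj_uu (t : d.T) (x : F) :
    d.tt t * d.uu x * (d.tt t)⁻¹ = d.uu ((t.1.1 : F) / (t.1.2 : F) * x) := by
  rw [mul_inv_eq_iff_eq_mul]
  refine d.mat_injective ?_
  rw [mat_mul, mat_mul, mat_tt, mat_uu, mat_uu]
  ext i j
  fin_cases i <;> fin_cases j <;> simp [Matrix.mul_apply]
  field_simp

theorem m_mulShift_torus (ψ : AddChar F ℂ) {χ : G → ℂ} (hχ : IsClassFunction G χ) (t : d.T) (c : F) :
    d.m (ψ.mulShift (c * ((t.1.1 : F) / (t.1.2 : F)))) χ = d.m (ψ.mulShift c) χ := by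
  have hs : (t.1.1 : F) / (t.1.2 : F) ≠ 0 := div_ne_zero (Units.ne_zero _) (Units.ne_zero _)
  simp only [m]
  congr 1
  refine Fintype.sum_equiv (Equiv.mulLeft₀ _ hs) _ _ fun x => ?_
  show χ (d.uu x) * conj (ψ.mulShift (c * ((t.1.1 : F) / (t.1.2 : F))) x) =
    χ (d.uu ((t.1.1 : F) / (t.1.2 : F) * x)) * conj (ψ.mulShift c ((t.1.1 : F) / (t.1.2 : F) * x))
  rw [← d.tt_conj_uu, hχ, AddChar.mulShift_apply, AddChar.mulShift_apply, mul_assoc]

theorem m_I {ψ : AddChar F ℂ} (hψ : ψ ≠ 1) (l : d.T →* ℂˣ) : d.m ψ (d.I l) = 1 := by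
  classical
  rw [m, Finset.sum_congr rfl fun x _ => show d.I l (d.uu x) * conj (ψ x) =
      (if x = 0 then (Fintype.card F : ℂ) else 0) + conj (ψ x) by
    rw [d.I_uu]
    split_ifs with h
    · subst h; simp
    · simp, Finset.sum_add_distrib, Finset.sum_ite_eq' Finset.univ (0 : F) (fun _ => (Fintype.card F : ℂ)),
    if_pos (Finset.mem_univ _), ← map_sum, AddChar.sum_eq_zero_of_ne_one hψ, map_zero, add_zero,
    inv_mul_cancel₀ (Nat.cast_ne_zero.mpr Fintype.card_ne_zero)]

theorem m_one_I (l : d.T →* ℂˣ) : d.m 1 (d.I l) = 2 := by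
  classical
  rw [m, Finset.sum_congr rfl fun x _ => show d.I l (d.uu x) * conj ((1 : AddChar F ℂ) x) =
      (if x = 0 then (Fintype.card F : ℂ) else 0) + 1 by
    rw [d.I_uu, AddChar.one_apply, map_one, mul_one]
    split_ifs <;> simp, Finset.sum_add_distrib, Finset.sum_ite_eq' Finset.univ (0 : F) (fun _ => (Fintype.card F : ℂ)),
    if_pos (Finset.mem_univ _), Finset.sum_const, Finset.card_univ, nsmul_eq_mul, mul_one, mul_add,
    inv_mul_cancel₀ (Nat.cast_ne_zero.mpr Fintype.card_ne_zero)]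
  norm_num

/-- Multiplicity in a principal series. -/
noncomputable def C (l : d.T →* ℂˣ) (χ : IrrCharacter G) : ℕ :=
  Classical.choose (classInner_natCast (d.isCharacter_I l) (isCharacter_of_isIrr χ.2))

theorem C_spec (l : d.T →* ℂˣ) (χ : IrrCharacter G) : classInner (d.I l) (χ : G → ℂ) = d.C l χ :=
  Classical.choose_spec (classInner_natCast (d.isCharacter_I l) (isCharacter_of_isIrr χ.2))

/-- Natural number multiplicity on the root group. -/
noncomputable def M (ψ : AddChar F ℂ) (χ : IrrCharacter G) : ℕ :=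
  Classical.choose (d.exists_m_nat ψ (isCharacter_of_isIrr χ.2))

theorem M_spec (ψ : AddChar F ℂ) (χ : IrrCharacter G) : d.m ψ (χ : G → ℂ) = d.M ψ χ :=
  Classical.choose_spec (d.exists_m_nat ψ (isCharacter_of_isIrr χ.2))

/-- Multiplicity of the trivial character on the root group. -/
noncomputable def A (χ : IrrCharacter G) : ℕ := d.M 1 χ

theorem degree_eq {ψ : AddChar F ℂ} (hψ : ψ ≠ 1) (χ : IrrCharacter G) [DecidableEq F] :
    (χ : G → ℂ) 1 = (d.A χ : ℂ) + ∑ c ∈ Finset.univ.erase (0 : F), (d.M (ψ.mulShift c) χ : ℂ) := by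
  rw [← d.uu_zero, d.fourier_inv hψ (χ : G → ℂ), ← Finset.add_sum_erase _ _ (Finset.mem_univ (0 : F))]
  simp only [mul_zero, AddChar.map_zero_eq_one, mul_one, AddChar.mulShift_zero, M_spec]
  rfl

theorem I_expand (l : d.T →* ℂˣ) (g : G) :
    d.I l g = ∑ χ : IrrCharacter G, (d.C l χ : ℂ) * (χ : G → ℂ) g := by
  have h := congrFun (eq_sum_classInner_smul (φ := d.I l) (isClassFunction_of_isCharacter (d.isCharacter_I l))) g
  rw [h, Finset.sum_apply]
  exact Finset.sum_congr rfl fun χ _ => by rw [Pi.smul_apply, smul_eq_mul, d.C_spec]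

theorem sum_C_mul_M (l : d.T →* ℂˣ) (ψ : AddChar F ℂ) :
    ((∑ χ : IrrCharacter G, d.C l χ * d.M ψ χ : ℕ) : ℂ) = d.m ψ (d.I l) := by
  push_cast
  simp only [← M_spec, m, d.I_expand l, Finset.sum_mul, Finset.mul_sum]
  rw [Finset.sum_comm]
  exact Finset.sum_congr rfl fun x _ => Finset.sum_congr rfl fun χ _ => by ring

theorem sum_C_A (l : d.T →* ℂˣ) : ∑ χ : IrrCharacter G, d.C l χ * d.A χ = 2 := by
  have h := d.sum_C_mul_M l 1
  rw [d.m_one_I l] at h
  exact_mod_cast h

theorem sum_C_M (l : d.T →* ℂˣ) {ψ : AddChar F ℂ} (hψ : ψ ≠ 1) :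
    ∑ χ : IrrCharacter G, d.C l χ * d.M ψ χ = 1 := by
  have h := d.sum_C_mul_M l ψ
  rw [d.m_I hψ l] at h
  exact_mod_cast h

theorem sum_C_sq (l : d.T →* ℂˣ) [Decidable (l.comp d.swap = l)] :
    ∑ χ : IrrCharacter G, d.C l χ * d.C l χ = if l.comp d.swap = l then 2 else 1 := by
  classical
  have h := classInner_eq_sum (φ := d.I l) (isClassFunction_of_isCharacter (d.isCharacter_I l))
  rw [d.classInner_I, if_pos rfl] at h
  simp only [C_spec, map_natCast] at h
  have h' : ((∑ χ : IrrCharacter G, d.C l χ * d.C l χ : ℕ) : ℂ) = ((if l.comp d.swap = l then 2 else 1 : ℕ) : ℂ) := by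
    push_cast
    rw [← h]
    by_cases e : l.comp d.swap = l
    · rw [if_pos e, if_pos e.symm]; norm_num
    · rw [if_neg e, if_neg (Ne.symm e)]; norm_num
  exact_mod_cast h'

theorem C_le_one (l : d.T →* ℂˣ) (χ : IrrCharacter G) : d.C l χ ≤ 1 := by
  classical
  have h := d.sum_C_sq l
  have h2 := Finset.single_le_sum (f := fun χ => d.C l χ * d.C l χ) (fun _ _ => Nat.zero_le _) (Finset.mem_univ χ)
  rw [h] at h2
  by_contra hc
  push Not at hc
  have : 2 * 2 ≤ d.C l χ * d.C l χ := Nat.mul_le_mul hc hc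
  split_ifs at h2 <;> omega

theorem sum_C (l : d.T →* ℂˣ) [Decidable (l.comp d.swap = l)] :
    ∑ χ : IrrCharacter G, d.C l χ = if l.comp d.swap = l then 2 else 1 := by
  rw [← d.sum_C_sq l]
  exact Finset.sum_congr rfl fun χ _ => by
    have := d.C_le_one l χ
    interval_cases d.C l χ <;> rfl

variable [Fintype (d.T →* ℂˣ)]

theorem sum_C_eq_A (χ : IrrCharacter G) : ∑ l : d.T →* ℂˣ, d.C l χ = d.A χ := by
  classical
  have h : ((∑ l : d.T →* ℂˣ, d.C l χ : ℕ) : ℂ) = (d.A χ : ℂ) := by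
    push_cast
    rw [A, ← d.M_spec]
    have hT : (Nat.card d.T : ℂ) ≠ 0 := Nat.cast_ne_zero.mpr Nat.card_pos.ne'
    have e : ∀ l : d.T →* ℂˣ, (d.C l χ : ℂ) = classInner (χ : G → ℂ) (d.I l) := fun l => by
      rw [classInner_conj_symm, d.C_spec, map_natCast]
    rw [Finset.sum_congr rfl fun l _ => e l]
    simp only [I, classInner_indFun_right _ _ (isClassFunction_of_isIrr χ.2)]
    simp only [classInner, ← d.borelEquiv.sum_comp, Fintype.sum_prod_type, pch, d.proj_borelEquiv, conj_hom]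
    rw [← Finset.mul_sum, Finset.sum_comm]
    have e2 : ∀ t : d.T, ∑ l : d.T →* ℂˣ, ∑ x : F, (χ : G → ℂ) (d.borelEquiv (t, x)).1 * (l t⁻¹ : ℂ) =
        if t = 1 then (Nat.card d.T : ℂ) * ∑ x : F, (χ : G → ℂ) (d.borelEquiv (t, x)).1 else 0 := by
      intro t
      rw [Finset.sum_comm, Finset.sum_congr rfl fun x _ => (Finset.mul_sum _ _ _).symm, ← Finset.sum_mul,
        sum_dual_apply]
      simp only [inv_eq_one]
      split_ifs <;> ring
    rw [Finset.sum_congr rfl fun t _ => e2 t, Finset.sum_ite_eq' Finset.univ (1 : d.T), if_pos (Finset.mem_univ _),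
      show (Nat.card d.B : ℂ) = (Nat.card d.T : ℂ) * (Fintype.card F : ℂ) by
        rw [← Nat.card_congr d.borelEquiv, Nat.card_prod, Nat.card_eq_fintype_card (α := F), Nat.cast_mul],
      mul_inv, mul_comm (Nat.card d.T : ℂ)⁻¹, mul_assoc, inv_mul_cancel_left₀ hT, m]
    congr 1
    refine Finset.sum_congr rfl fun x _ => ?_
    rw [AddChar.one_apply, map_one, mul_one]
    refine congrArg (χ : G → ℂ) (d.mat_injective ?_)
    change d.mat (d.uu (x / ((1 : d.T).1.2 : F)) * d.tt 1) = _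
    rw [mat_mul, mat_uu, mat_tt, mat_uu]
    ext i j; fin_cases i <;> fin_cases j <;> simp [Matrix.mul_apply]
  exact_mod_cast h

theorem C_le_A (l : d.T →* ℂˣ) (χ : IrrCharacter G) : d.C l χ ≤ d.A χ := by
  rw [← d.sum_C_eq_A]
  exact Finset.single_le_sum (f := fun l => d.C l χ) (fun _ _ => Nat.zero_le _) (Finset.mem_univ l)

/-- Constituents of a regular principal series. -/
theorem regular_spec {l : d.T →* ℂˣ} (hl : l.comp d.swap ≠ l) {χ : IrrCharacter G} (hC : d.C l χ ≠ 0) :
    (χ : G → ℂ) = d.I l ∧ d.A χ = 2 ∧ (∀ ψ : AddChar F ℂ, ψ ≠ 1 → d.M ψ χ = 1) := by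
  classical
  have h1 := d.sum_C l
  rw [if_neg hl] at h1
  have hC1 : d.C l χ = 1 := le_antisymm (d.C_le_one l χ) (Nat.one_le_iff_ne_zero.mpr hC)
  have hz : ∀ ξ, ξ ≠ χ → d.C l ξ = 0 := fun ξ hξ => by
    have h2 := Finset.add_sum_erase Finset.univ (fun ξ => d.C l ξ) (Finset.mem_univ χ)
    rw [h1, hC1] at h2
    have h3 : ∑ x ∈ Finset.univ.erase χ, d.C l x = 0 := by omega
    exact (Finset.sum_eq_zero_iff.mp h3) ξ (Finset.mem_erase.mpr ⟨hξ, Finset.mem_univ _⟩)
  refine ⟨funext fun g => ?_, ?_, fun ψ hψ => ?_⟩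
  · rw [d.I_expand, Finset.sum_eq_single χ (fun ξ _ hξ => by simp [hz ξ hξ]) (by simp), hC1, Nat.cast_one, one_mul]
  · have h := d.sum_C_A l
    rwa [Finset.sum_eq_single χ (fun ξ _ hξ => by simp [hz ξ hξ]) (by simp), hC1, one_mul] at h
  · have h := d.sum_C_M l hψ
    rwa [Finset.sum_eq_single χ (fun ξ _ hξ => by simp [hz ξ hξ]) (by simp), hC1, one_mul] at h

/-- Constituents of a fixed principal series. -/
theorem fixed_spec {l : d.T →* ℂˣ} (hl : l.comp d.swap = l) {χ : IrrCharacter G} (hC : d.C l χ ≠ 0) :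
    d.A χ = 1 := by
  classical
  have h1 := d.sum_C l
  rw [if_pos hl] at h1
  have h2 := d.sum_C_A l
  have hC1 : d.C l χ = 1 := le_antisymm (d.C_le_one l χ) (Nat.one_le_iff_ne_zero.mpr hC)
  have hle : ∀ ξ, d.C l ξ ≤ d.C l ξ * d.A ξ := fun ξ => by
    rcases Nat.eq_zero_or_pos (d.C l ξ) with h | h
    · simp [h]
    · exact Nat.le_mul_of_pos_right _ (lt_of_lt_of_le h (d.C_le_A l ξ))
  have := (Finset.sum_eq_sum_iff_of_le fun ξ _ => hle ξ).mp (h1.trans h2.symm) χ (Finset.mem_univ χ)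
  rw [hC1, one_mul] at this
  exact this.symm

theorem exists_C_ne {χ : IrrCharacter G} (hA : d.A χ ≠ 0) : ∃ l, d.C l χ ≠ 0 := by
  by_contra h
  push Not at h
  exact hA (by rw [← d.sum_C_eq_A]; exact Finset.sum_eq_zero fun l _ => h l)

theorem A_cases (χ : IrrCharacter G) : d.A χ = 0 ∨ d.A χ = 1 ∨ d.A χ = 2 := by
  classical
  by_cases h : d.A χ = 0
  · exact Or.inl h
  obtain ⟨l, hl⟩ := d.exists_C_ne h
  by_cases e : l.comp d.swap = l
  · exact Or.inr (Or.inl (d.fixed_spec e hl))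
  · exact Or.inr (Or.inr (d.regular_spec e hl).2.1)

theorem exists_regular_of_A_two {χ : IrrCharacter G} (hA : d.A χ = 2) :
    ∃ l, l.comp d.swap ≠ l ∧ (χ : G → ℂ) = d.I l := by
  classical
  obtain ⟨l, hl⟩ := d.exists_C_ne (χ := χ) (by omega)
  have e : l.comp d.swap ≠ l := fun e => by have := d.fixed_spec e hl; omega
  exact ⟨l, e, (d.regular_spec e hl).1⟩

theorem M_of_A_two {χ : IrrCharacter G} (hA : d.A χ = 2) {ψ : AddChar F ℂ} (hψ : ψ ≠ 1) : d.M ψ χ = 1 := by
  classical
  obtain ⟨l, hl⟩ := d.exists_C_ne (χ := χ) (by omega)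
  have e : l.comp d.swap ≠ l := fun e => by have := d.fixed_spec e hl; omega
  exact (d.regular_spec e hl).2.2 ψ hψ

theorem exists_fixed_of_A_one {χ : IrrCharacter G} (hA : d.A χ = 1) :
    ∃ l, l.comp d.swap = l ∧ d.C l χ = 1 := by
  classical
  obtain ⟨l, hl⟩ := d.exists_C_ne (χ := χ) (by omega)
  have e : l.comp d.swap = l := by
    by_contra e
    have := (d.regular_spec e hl).2.1
    omega
  exact ⟨l, e, le_antisymm (d.C_le_one l χ) (Nat.one_le_iff_ne_zero.mpr hl)⟩

theorem M_le_of_A_one {χ : IrrCharacter G} (hA : d.A χ = 1) {ψ : AddChar F ℂ} (hψ : ψ ≠ 1) : d.M ψ χ ≤ 1 := by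
  obtain ⟨l, _, hC⟩ := d.exists_fixed_of_A_one hA
  have h := d.sum_C_M l hψ
  have h2 := Finset.single_le_sum (f := fun ξ => d.C l ξ * d.M ψ ξ) (fun _ _ => Nat.zero_le _) (Finset.mem_univ χ)
  rw [h, hC, one_mul] at h2
  exact h2

theorem sum_fixed_weight (l : d.T →* ℂˣ) (hl : l.comp d.swap = l) (w : IrrCharacter G → ℕ) :
    ∑ χ : IrrCharacter G with d.A χ = 1, d.C l χ * w χ = ∑ χ : IrrCharacter G, d.C l χ * w χ := by
  rw [Finset.sum_filter]
  refine Finset.sum_congr rfl fun χ _ => ?_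
  split_ifs with h
  · rfl
  · have : d.C l χ = 0 := by
      by_contra hne
      exact h (d.fixed_spec hl hne)
    rw [this, zero_mul]

variable [DecidableEq (d.T →* ℂˣ)]

/-- The number of fixed characters of the torus. -/
def nfix : ℕ := (Finset.univ.filter fun l : d.T →* ℂˣ => l.comp d.swap = l).card

theorem two_mul_card_A_two :
    2 * (Finset.univ.filter fun χ : IrrCharacter G => d.A χ = 2).card + d.nfix = Nat.card d.T := by
  classical
  have h1 : ∑ χ : IrrCharacter G with d.A χ = 2, ∑ l, d.C l χ = 2 * (Finset.univ.filter fun χ : IrrCharacter G => d.A χ = 2).card := by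
    rw [Finset.sum_congr rfl fun χ hχ => (d.sum_C_eq_A χ).trans (Finset.mem_filter.mp hχ).2, Finset.sum_const,
      smul_eq_mul, mul_comm]
  rw [Finset.sum_comm] at h1
  have h2 : ∀ l : d.T →* ℂˣ, (∑ χ : IrrCharacter G with d.A χ = 2, d.C l χ) = if l.comp d.swap = l then 0 else 1 := by
    intro l
    split_ifs with e
    · refine Finset.sum_eq_zero fun χ hχ => ?_
      by_contra hne
      have := d.fixed_spec e hne
      have := (Finset.mem_filter.mp hχ).2
      omega
    · have h := d.sum_C l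
      rw [if_neg e] at h
      rw [← h, Finset.sum_filter]
      refine Finset.sum_congr rfl fun χ _ => ?_
      split_ifs with hA
      · rfl
      · by_contra hne
        exact hA (d.regular_spec e (Ne.symm hne)).2.1
  rw [Finset.sum_congr rfl fun l _ => h2 l] at h1
  rw [← h1, nfix, ← card_dual d.T, Nat.card_eq_fintype_card, ← Finset.card_univ,
    ← Finset.card_filter_add_card_filter_not (s := (Finset.univ : Finset (d.T →* ℂˣ))) (fun l => l.comp d.swap = l),
    Finset.sum_ite, Finset.sum_const_zero, zero_add, Finset.sum_const, smul_eq_mul, mul_one, add_comm]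

theorem card_A_one_weight (w : IrrCharacter G → ℕ) (k : ℕ)
    (hw : ∀ l : d.T →* ℂˣ, l.comp d.swap = l → ∑ χ : IrrCharacter G, d.C l χ * w χ = k) :
    ∑ χ : IrrCharacter G with d.A χ = 1, w χ = d.nfix * k := by
  classical
  have h1 : ∀ χ ∈ Finset.univ.filter (fun χ : IrrCharacter G => d.A χ = 1), w χ = ∑ l, d.C l χ * w χ := fun χ hχ => by
    rw [← Finset.sum_mul, d.sum_C_eq_A, (Finset.mem_filter.mp hχ).2, one_mul]
  rw [Finset.sum_congr rfl h1, Finset.sum_comm]
  have h2 : ∀ l : d.T →* ℂˣ, (∑ χ : IrrCharacter G with d.A χ = 1, d.C l χ * w χ) = if l.comp d.swap = l then k else 0 := by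
    intro l
    split_ifs with e
    · rw [d.sum_fixed_weight l e, hw l e]
    · refine Finset.sum_eq_zero fun χ hχ => ?_
      by_contra hne
      have := (d.regular_spec e (left_ne_zero_of_mul hne)).2.1
      have := (Finset.mem_filter.mp hχ).2
      omega
  rw [Finset.sum_congr rfl fun l _ => h2 l, ← Finset.sum_filter, Finset.sum_const, smul_eq_mul, nfix]

theorem card_A_one : (Finset.univ.filter fun χ : IrrCharacter G => d.A χ = 1).card = 2 * d.nfix := by
  classical
  rw [Finset.card_eq_sum_ones, d.card_A_one_weight (fun _ => 1) 2 fun l hl => by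
    simp only [mul_one]; rw [d.sum_C l, if_pos hl], mul_comm]

theorem card_A_one_M {ψ : AddChar F ℂ} (hψ : ψ ≠ 1) :
    ∑ χ : IrrCharacter G with d.A χ = 1, d.M ψ χ = d.nfix := by
  rw [d.card_A_one_weight (d.M ψ) 1 fun l _ => d.sum_C_M l hψ, mul_one]

/-- Irreducible characters off the principal series vanish at regular diagonal elements. -/
theorem cusp_vanish {t : d.T} (ht : t.1.1 ≠ t.1.2)
    (hfix : ∀ χ : IrrCharacter G, d.A χ = 1 → (χ : G → ℂ) (d.tt t) * conj ((χ : G → ℂ) (d.tt t)) = 1)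
    {χ : IrrCharacter G} (hA : d.A χ = 0) : (χ : G → ℂ) (d.tt t) = 0 := by
  classical
  have hcent : Nat.card (Subgroup.centralizer ({d.tt t} : Set G)) = Nat.card d.T := by
    refine Nat.card_congr
      { toFun := fun g => d.proj ⟨g.1, ?_⟩
        invFun := fun s => ⟨d.tt s, Subgroup.mem_centralizer_singleton_iff.mpr (d.mat_injective ?_)⟩
        left_inv := fun g => ?_
        right_inv := fun s => ?_ }
    · have h := congrArg d.mat (Subgroup.mem_centralizer_singleton_iff.mp g.2)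
      rw [mat_mul, mat_mul, mat_tt] at h
      have h10 := congrFun (congrFun h 1) 0
      simp [Matrix.mul_apply] at h10
      rw [mem_B]
      have h' : ((t.1.1 : F) - (t.1.2 : F)) * d.mat g.1 1 0 = 0 := by linear_combination h10
      exact (mul_eq_zero.mp h').resolve_left (sub_ne_zero.mpr fun e => ht (Units.ext e))
    · rw [mat_mul, mat_mul, mat_tt, mat_tt]
      ext i j; fin_cases i <;> fin_cases j <;> simp [Matrix.mul_apply, mul_comm]
    · refine Subtype.ext (d.mat_injective ?_)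
      have h := congrArg d.mat (Subgroup.mem_centralizer_singleton_iff.mp g.2)
      rw [mat_mul, mat_mul, mat_tt] at h
      have h10 := congrFun (congrFun h 1) 0
      have h01 := congrFun (congrFun h 0) 1
      simp [Matrix.mul_apply] at h10 h01
      have hne : (t.1.1 : F) - (t.1.2 : F) ≠ 0 := sub_ne_zero.mpr fun e => ht (Units.ext e)
      have e10 : d.mat g.1 1 0 = 0 :=
        (mul_eq_zero.mp (show ((t.1.1 : F) - (t.1.2 : F)) * d.mat g.1 1 0 = 0 by linear_combination h10)).resolve_left hne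
      have e01 : d.mat g.1 0 1 = 0 :=
        (mul_eq_zero.mp (show ((t.1.1 : F) - (t.1.2 : F)) * d.mat g.1 0 1 = 0 by linear_combination -h01)).resolve_left hne
      rw [mat_tt, proj_fst, proj_snd]
      ext i j; fin_cases i <;> fin_cases j <;> simp [e10, e01]
    · refine Subtype.ext (Prod.ext (Units.ext ?_) (Units.ext ?_))
      · rw [proj_fst]; simp [mat_tt]
      · rw [proj_snd]; simp [mat_tt]
  let f : IrrCharacter G → ℂ := fun ξ => (ξ : G → ℂ) (d.tt t) * conj ((ξ : G → ℂ) (d.tt t))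
  have hall : ∑ ξ, f ξ = (Nat.card d.T : ℂ) := by
    rw [← hcent]
    have := CharTools.sum_irr_mul_conj' (d.tt t) (d.tt t)
    rwa [if_pos (IsConj.refl _)] at this
  have hsplit : ∑ ξ, f ξ = (∑ ξ with d.A ξ = 0, f ξ) + (∑ ξ with d.A ξ = 1, f ξ) + ∑ ξ with d.A ξ = 2, f ξ := by
    simp only [Finset.sum_filter, ← Finset.sum_add_distrib]
    refine Finset.sum_congr rfl fun ξ _ => ?_
    rcases d.A_cases ξ with e | e | e <;> simp [e]
  have hone : ∑ ξ with d.A ξ = 1, f ξ = ((2 * d.nfix : ℕ) : ℂ) := by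
    rw [Finset.sum_congr rfl fun ξ hξ => hfix ξ (Finset.mem_filter.mp hξ).2, Finset.sum_const, nsmul_eq_mul, mul_one,
      d.card_A_one]
  have htwo : 2 * ∑ ξ with d.A ξ = 2, f ξ = 2 * (Nat.card d.T : ℂ) - 4 * (d.nfix : ℂ) := by
    have h1 : ∀ ξ ∈ Finset.univ.filter (fun ξ : IrrCharacter G => d.A ξ = 2), 2 * f ξ = ∑ l, (d.C l ξ : ℂ) * f ξ := fun ξ hξ => by
      rw [← Finset.sum_mul, ← Nat.cast_sum, d.sum_C_eq_A, (Finset.mem_filter.mp hξ).2]; norm_num
    rw [Finset.mul_sum, Finset.sum_congr rfl h1, Finset.sum_comm]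
    have h2 : ∀ l : d.T →* ℂˣ, ∑ ξ with d.A ξ = 2, (d.C l ξ : ℂ) * f ξ =
        d.I l (d.tt t) * conj (d.I l (d.tt t)) - if l.comp d.swap = l then 4 else 0 := by
      intro l
      split_ifs with e
      · rw [Finset.sum_eq_zero fun ξ hξ => by
          have : d.C l ξ = 0 := by
            by_contra hne
            have := d.fixed_spec e hne
            have := (Finset.mem_filter.mp hξ).2
            omega
          simp [this], d.I_tt l t ht]
        have he : l (d.swap t) = l t := DFunLike.congr_fun e t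
        rw [he, map_add]
        linear_combination -(4 : ℂ) * linear_conj_mul l t
      · obtain ⟨ξ₀, h0⟩ : ∃ ξ, d.C l ξ ≠ 0 := by
          by_contra hc
          push Not at hc
          have := d.sum_C l
          rw [if_neg e, Finset.sum_eq_zero fun ξ _ => hc ξ] at this
          exact zero_ne_one this
        have h0' := d.regular_spec e h0
        rw [sub_zero, Finset.sum_eq_single ξ₀]
        · rw [le_antisymm (d.C_le_one l ξ₀) (Nat.one_le_iff_ne_zero.mpr h0), Nat.cast_one, one_mul]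
          simp only [f, h0'.1]
        · intro ξ _ hξ
          have : d.C l ξ = 0 := by
            by_contra hne
            exact hξ (Subtype.ext ((d.regular_spec e hne).1.trans h0'.1.symm))
          simp [this]
        · intro hn
          exact absurd ((Finset.mem_filter (p := fun ξ => d.A ξ = 2)).mpr ⟨Finset.mem_univ ξ₀, h0'.2.1⟩) hn
    rw [Finset.sum_congr rfl fun l _ => h2 l, Finset.sum_sub_distrib, ← Finset.sum_filter, Finset.sum_const,
      nsmul_eq_mul, mul_comm ((Finset.card _ : ℕ) : ℂ) 4]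
    congr 1
    · have h3 : ∀ l : d.T →* ℂˣ, d.I l (d.tt t) * conj (d.I l (d.tt t)) =
          2 + (l (t * (d.swap t)⁻¹) : ℂ) + (l (d.swap t * t⁻¹) : ℂ) := fun l => by
        rw [d.I_tt l t ht, map_add, map_mul l, map_mul l, Units.val_mul, Units.val_mul, ← conj_hom, ← conj_hom]
        linear_combination linear_conj_mul l t + linear_conj_mul l (d.swap t)
      rw [Finset.sum_congr rfl fun l _ => h3 l, Finset.sum_add_distrib, Finset.sum_add_distrib, sum_dual_apply,
        sum_dual_apply, Finset.sum_const, Finset.card_univ, nsmul_eq_mul, ← Nat.card_eq_fintype_card, card_dual]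
      have hne : t ≠ d.swap t := fun e => ht (congrArg (fun s : d.T => s.1.1) e)
      rw [if_neg (fun e => hne (mul_inv_eq_one.mp e)), if_neg (fun e => hne (mul_inv_eq_one.mp e).symm)]
      ring
  have hzero : ∑ ξ with d.A ξ = 0, f ξ = 0 := by
    push_cast at hone
    linear_combination hall - hsplit - hone - (1 / 2 : ℂ) * htwo
  have hnorm : ∀ ξ, f ξ = (Complex.normSq ((ξ : G → ℂ) (d.tt t)) : ℂ) := fun ξ => Complex.mul_conj _
  simp only [hnorm] at hzero
  rw [← Complex.ofReal_sum, Complex.ofReal_eq_zero] at hzero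
  exact Complex.normSq_eq_zero.mp ((Finset.sum_eq_zero_iff_of_nonneg fun ξ _ => Complex.normSq_nonneg _).mp hzero χ
    (Finset.mem_filter.mpr ⟨Finset.mem_univ _, hA⟩))

end Dat

end Cfsg.Agent.Lib.TwoChar
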